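import Mathlib

/-!
# Groups in which the centraliser of every involution is abelian: elementary facts

If two involutions do not commute then their product has odd order and they are conjugate; commuting
involutions have the same centraliser. For an involution `t`, the normaliser of its centraliser
consists of the elements moving `t` to an involution commuting with `t`.
-/

set_option autoImplicit false

namespace Cfsg.Agent.Lib.AbelianInvCentralizer

open Subgroup

variable {G : Type*} [Group G]

/-- An involution. -/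
def IsInv (t : G) : Prop := t * t = 1 ∧ t ≠ 1

/-- Centralisers of involutions are abelian. -/
def HasAbelianCent (G : Type*) [Group G] : Prop :=
  ∀ t : G, IsInv t → ∀ a b : G, Commute a t → Commute b t → Commute a b

/-- There are two distinct commuting involutions. -/
def HasFour (G : Type*) [Group G] : Prop :=
  ∃ t s : G, IsInv t ∧ IsInv s ∧ t ≠ s ∧ Commute t s

/-- There are two involutions which do not commute. -/
def HasSpread (G : Type*) [Group G] : Prop :=
  ∃ t u : G, IsInv t ∧ IsInv u ∧ ¬ Commute t u

/-- The centraliser of an element. -/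
abbrev cent (t : G) : Subgroup G := centralizer ({t} : Set G)

/-- The normaliser of the centraliser of an element. -/
abbrev nz (t : G) : Subgroup G := normalizer ((cent t : Subgroup G) : Set G)

theorem mem_cent {t a : G} : a ∈ cent t ↔ Commute a t := mem_centralizer_singleton_iff

theorem isInv_iff {t : G} : IsInv t ↔ orderOf t = 2 := by
  rw [orderOf_eq_iff (by norm_num : 0 < 2)]
  constructor
  · rintro ⟨h1, h2⟩
    refine ⟨by rw [pow_two, h1], fun m hm hm0 => ?_⟩
    obtain rfl : m = 1 := by omega
    simpa using h2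
  · rintro ⟨h1, h2⟩
    exact ⟨by rw [← pow_two, h1], by simpa using h2 1 (by norm_num) (by norm_num)⟩

theorem IsInv.inv_eq {t : G} (ht : IsInv t) : t⁻¹ = t := inv_eq_of_mul_eq_one_right ht.1

theorem IsInv.conj {t : G} (ht : IsInv t) (g : G) : IsInv (g * t * g⁻¹) := by
  refine ⟨by rw [show g * t * g⁻¹ * (g * t * g⁻¹) = g * (t * t) * g⁻¹ by group, ht.1]; group,
    fun h => ht.2 ?_⟩
  rwa [conj_eq_one_iff] at h

theorem IsInv.mul {t s : G} (ht : IsInv t) (hs : IsInv s) (hts : Commute t s) (hne : t ≠ s) :
    IsInv (t * s) := by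
  refine ⟨by rw [hts.symm.mul_mul_mul_comm, ht.1, hs.1, mul_one], fun h => hne ?_⟩
  rw [eq_inv_of_mul_eq_one_left h, hs.inv_eq]

theorem commute_conj {a b : G} (g : G) (h : Commute a b) :
    Commute (g * a * g⁻¹) (g * b * g⁻¹) :=
  h.map (MulAut.conj g).toMonoidHom

theorem commute_conj_iff {a b : G} (g : G) :
    Commute (g * a * g⁻¹) (g * b * g⁻¹) ↔ Commute a b := by
  refine ⟨fun h => ?_, commute_conj g⟩
  have h1 := commute_conj g⁻¹ h
  simpa [mul_assoc] using h1

theorem cent_conj (g t : G) :
    cent (g * t * g⁻¹) = (cent t).map (MulAut.conj g).toMonoidHom := by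
  ext x
  rw [mem_map_equiv, mem_cent, mem_cent, MulAut.conj_symm_apply]
  conv_lhs => rw [show x = g * (g⁻¹ * x * g) * g⁻¹ by group]
  exact commute_conj_iff g

/-! ### Consequences of abelian centralisers -/

variable (hC : HasAbelianCent G)
include hC

theorem commute_trans {a s t : G} (hs : IsInv s) (h1 : Commute a s) (h2 : Commute s t) :
    Commute a t :=
  hC s hs a t h1 h2.symm

theorem cent_eq_of_commute {s t : G} (hs : IsInv s) (ht : IsInv t) (h : Commute s t) :
    cent s = cent t := by
  ext a
  rw [mem_cent, mem_cent]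
  exact ⟨fun ha => commute_trans hC hs ha h, fun ha => commute_trans hC ht ha h.symm⟩

theorem commute_of_mem_cent {t a b : G} (ht : IsInv t) (ha : a ∈ cent t) (hb : b ∈ cent t) :
    Commute a b :=
  hC t ht a b (mem_cent.mp ha) (mem_cent.mp hb)

theorem mem_nz_iff {t g : G} (ht : IsInv t) : g ∈ nz t ↔ Commute (g * t * g⁻¹) t := by
  constructor
  · intro hg
    exact mem_cent.mp ((mem_normalizer_iff.mp hg t).mp (mem_cent.mpr (Commute.refl t)))
  · intro h
    rw [mem_normalizer_iff]
    intro a
    conv_rhs => rw [← cent_eq_of_commute hC (ht.conj g) ht h]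
    rw [cent_conj, mem_map_equiv, MulAut.conj_symm_apply]
    rw [show g⁻¹ * (g * a * g⁻¹) * g = a by group]

theorem cent_le_nz {t : G} (ht : IsInv t) : cent t ≤ nz t := by
  intro a ha
  rw [mem_nz_iff hC ht, (mem_cent.mp ha).eq]
  simp

theorem nz_eq_of_commute {s t : G} (hs : IsInv s) (ht : IsInv t) (h : Commute s t) :
    nz s = nz t := by
  rw [nz, nz, cent_eq_of_commute hC hs ht h]

/-- The product of two non-commuting involutions has odd order; they are conjugate in the group
they generate. -/
theorem exists_conj_of_not_commute [Finite G] {H : Subgroup G} {t u : G} (ht : IsInv t)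
    (hu : IsInv u) (htH : t ∈ H) (huH : u ∈ H) (h : ¬ Commute t u) :
    ∃ g ∈ H, g * t * g⁻¹ = u := by
  have hxH : t * u ∈ H := mul_mem htH huH
  set x := t * u with hx
  have hconj : t * x * t⁻¹ = x⁻¹ := by
    rw [hx, ht.inv_eq, mul_inv_rev, ht.inv_eq, hu.inv_eq,
      show t * (t * u) * t = t * t * (u * t) by group, ht.1, one_mul]
  rcases Nat.even_or_odd (orderOf x) with ⟨k, hk⟩ | ⟨k, hk⟩
  · exfalso
    have hpos := orderOf_pos x
    set z := x ^ k with hz
    have hz1 : z * z = 1 := by rw [hz, ← pow_add, ← hk, pow_orderOf_eq_one]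
    have hz2 : z ≠ 1 := pow_ne_one_of_lt_orderOf (by omega) (by omega)
    have hzi : IsInv z := ⟨hz1, hz2⟩
    have hct : Commute t z := by
      rw [commute_iff_eq, eq_comm, ← eq_mul_inv_iff_mul_eq]
      have h1 : t * z * t⁻¹ = z⁻¹ := by rw [hz, ← conj_pow, hconj, inv_pow]
      rw [hzi.inv_eq] at h1
      exact h1.symm
    have hxz : Commute x z := (Commute.refl x).pow_right k
    have hcu : Commute u z := by
      have h1 : Commute (t⁻¹ * x) z := hct.inv_left.mul_left hxz
      rwa [hx, inv_mul_cancel_left] at h1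
    exact h (hC z hzi t u hct hcu)
  · set c := x ^ (k + 1) with hc
    refine ⟨t * c, mul_mem htH (pow_mem hxH _), ?_⟩
    have h2 : c * c * t⁻¹ = x * t⁻¹ := by
      rw [hc, ← pow_add, show k + 1 + (k + 1) = orderOf x + 1 by omega, pow_succ, pow_orderOf_eq_one,
        one_mul]
    have h3 : t * c⁻¹ = c * t := by
      have h4 : t * c * t⁻¹ = c⁻¹ := by rw [hc, ← conj_pow, hconj, inv_pow]
      calc t * c⁻¹ = t * (t * c * t⁻¹) := by rw [h4]
        _ = t * t * c * t := by rw [ht.inv_eq]; group
        _ = c * t := by rw [ht.1, one_mul]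
    calc t * c * t * (t * c)⁻¹ = t * c * (t * c⁻¹) * t⁻¹ := by group
      _ = t * c * (c * t) * t⁻¹ := by rw [h3]
      _ = t * (c * c * t⁻¹) * t := by
            rw [ht.inv_eq]
            calc t * c * (c * t) * t = t * (c * c * t) * t := by group
              _ = _ := rfl
      _ = t * (x * t⁻¹) * t := by rw [h2]
      _ = t * x := by group
      _ = u := by rw [hx, ← mul_assoc, ht.1, one_mul]

/-- All involutions of a subgroup containing two non-commuting involutions are conjugate in it. -/
theorem exists_conj_in [Finite G] {H : Subgroup G} {a b : G} (ha : IsInv a) (hb : IsInv b)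
    (haH : a ∈ H) (hbH : b ∈ H) (hab : ¬ Commute a b) {t s : G} (ht : IsInv t) (hs : IsInv s)
    (htH : t ∈ H) (hsH : s ∈ H) : ∃ g ∈ H, g * t * g⁻¹ = s := by
  by_cases hts : Commute t s
  · obtain ⟨w, hw, hwH, hwt⟩ : ∃ w, IsInv w ∧ w ∈ H ∧ ¬ Commute w t := by
      by_contra hno
      push Not at hno
      exact hab (hC t ht a b (hno a ha haH) (hno b hb hbH))
    have hws : ¬ Commute w s := fun h => hwt (commute_trans hC hs h hts.symm)
    obtain ⟨g, hg, hg'⟩ := exists_conj_of_not_commute hC ht hw htH hwH (fun h => hwt h.symm)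
    obtain ⟨g', hgH', hg''⟩ := exists_conj_of_not_commute hC hw hs hwH hsH hws
    exact ⟨g' * g, mul_mem hgH' hg,
      by rw [← hg'', ← hg']; group⟩
  · exact exists_conj_of_not_commute hC ht hs htH hsH hts

variable (hS : HasSpread G)
include hS

theorem exists_conj [Finite G] {t s : G} (ht : IsInv t) (hs : IsInv s) :
    ∃ g : G, g * t * g⁻¹ = s := by
  obtain ⟨a, b, ha, hb, hab⟩ := hS
  obtain ⟨g, -, hg⟩ := exists_conj_in hC ha hb (mem_top a) (mem_top b) hab ht hs (mem_top t) (mem_top s)
  exact ⟨g, hg⟩

theorem exists_not_commute {t : G} (ht : IsInv t) : ∃ u : G, IsInv u ∧ ¬ Commute u t := by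
  obtain ⟨a, b, ha, hb, hab⟩ := hS
  by_contra hno
  push Not at hno
  exact hab (hC t ht a b (hno a ha) (hno b hb))

omit hS in
/-- An involution in the normaliser of the centraliser of `t` commutes with `t`. -/
theorem commute_of_mem_nz [Finite G] {t s : G} (ht : IsInv t) (hs : IsInv s) (h : s ∈ nz t) :
    Commute s t := by
  by_contra hst
  have h1 := (mem_nz_iff hC ht).mp h
  rw [hs.inv_eq] at h1
  -- `(s t)^4 = 1`
  have h4 : (s * t) ^ 4 = 1 := by
    have h2 : s * t * s * t * (s * t * s * t) = 1 := by
      calc s * t * s * t * (s * t * s * t) = (s * t * s) * t * ((s * t * s) * t) := by group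
        _ = (s * t * s) * (s * t * s) * (t * t) := by rw [h1.mul_mul_mul_comm]
        _ = s * t * (s * s) * t * s * (t * t) := by group
        _ = 1 := by rw [hs.1, ht.1, mul_one, show s * t * 1 * t * s = s * (t * t) * s by group, ht.1,
              mul_one, hs.1]
    rw [← h2]
    simp only [pow_succ, pow_zero, one_mul, mul_assoc]
  rcases Nat.even_or_odd (orderOf (s * t)) with he | ho
  · obtain ⟨k, hk⟩ := he
    -- an even order gives a central involution
    have hpos := orderOf_pos (s * t)
    set x := s * t with hx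
    have hconj : s * x * s⁻¹ = x⁻¹ := by
      rw [hx, hs.inv_eq, mul_inv_rev, hs.inv_eq, ht.inv_eq,
        show s * (s * t) * s = s * s * (t * s) by group, hs.1, one_mul]
    have hzi : IsInv (x ^ k) :=
      ⟨by rw [← pow_add, ← hk, pow_orderOf_eq_one], pow_ne_one_of_lt_orderOf (by omega) (by omega)⟩
    have hcs : Commute s (x ^ k) := by
      rw [commute_iff_eq, eq_comm, ← eq_mul_inv_iff_mul_eq]
      have h5 : s * x ^ k * s⁻¹ = (x ^ k)⁻¹ := by rw [← conj_pow, hconj, inv_pow]
      rw [hzi.inv_eq] at h5
      exact h5.symm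
    have hct : Commute t (x ^ k) := by
      have h6 : Commute (s⁻¹ * x) (x ^ k) := hcs.inv_left.mul_left ((Commute.refl x).pow_right k)
      rwa [hx, inv_mul_cancel_left] at h6
    exact hst (hC _ hzi s t hcs hct)
  · have h7 : orderOf (s * t) ∣ 4 := orderOf_dvd_of_pow_eq_one h4
    have hle := Nat.le_of_dvd (by norm_num) h7
    obtain ⟨k, hk⟩ := ho
    have h8 : orderOf (s * t) = 1 ∨ orderOf (s * t) = 3 := by omega
    rcases h8 with h8 | h8
    · rw [orderOf_eq_one_iff] at h8
      exact hst (by rw [eq_inv_of_mul_eq_one_left h8, ht.inv_eq])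
    · rw [h8] at h7
      norm_num at h7

end Cfsg.Agent.Lib.AbelianInvCentralizer
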