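import Mathlib
import Cfsg.Agent.Lib.AbelianInvCentralizer.Basic

/-!
# Counting involutions outside a subgroup containing the centraliser of an involution
-/

set_option autoImplicit false

namespace Cfsg.Agent.Lib.AbelianInvCentralizer

open Subgroup

variable {G : Type*} [Group G] [Finite G]

omit [Finite G] in
/-- The involutions of `H` correspond to the cosets of the centraliser of one of them. -/
theorem card_invs_in {H : Subgroup G} {t : G} (ht : IsInv t) (htH : t ∈ H)
    (hconj : ∀ s, IsInv s → s ∈ H → ∃ h ∈ H, h * t * h⁻¹ = s) :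
    Nat.card {s : G // IsInv s ∧ s ∈ H} = (cent t).relIndex H := by
  have key : ∀ a b : G, a * t * a⁻¹ = b * t * b⁻¹ ↔ a⁻¹ * b ∈ cent t := by
    intro a b
    rw [mem_cent]
    constructor
    · intro h
      calc a⁻¹ * b * t = a⁻¹ * (b * t * b⁻¹) * b := by group
        _ = a⁻¹ * (a * t * a⁻¹) * b := by rw [h]
        _ = t * (a⁻¹ * b) := by group
    · intro h
      calc a * t * a⁻¹ = a * (t * (a⁻¹ * b)) * b⁻¹ := by group
        _ = a * (a⁻¹ * b * t) * b⁻¹ := by rw [h.eq]
        _ = b * t * b⁻¹ := by group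
  let f : ↥H ⧸ (cent t).subgroupOf H → {s : G // IsInv s ∧ s ∈ H} :=
    Quotient.lift (fun h : H => ⟨(h : G) * t * (h : G)⁻¹, ht.conj _,
      mul_mem (mul_mem h.2 htH) (inv_mem h.2)⟩) (fun a b hab => by
        replace hab := mem_subgroupOf.mp (QuotientGroup.leftRel_apply.mp hab)
        exact Subtype.ext ((key _ _).mpr hab))
  rw [relIndex, index, Nat.card_eq_of_bijective f ⟨?_, ?_⟩]
  · rintro ⟨a⟩ ⟨b⟩ hab
    exact QuotientGroup.eq.mpr (mem_subgroupOf.mpr ((key _ _).mp (congrArg Subtype.val hab)))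
  · rintro ⟨s, hs, hsH⟩
    obtain ⟨h, hh, rfl⟩ := hconj s hs hsH
    exact ⟨QuotientGroup.mk ⟨h, hh⟩, rfl⟩

/-- The elements of `H` inverted by `u`. -/
def invertedIn (H : Subgroup G) (u : G) : Set G := {y | y ∈ H ∧ u * y * u = y⁻¹}

/-- If no involution outside `H` inverts more than `[H : C(t)]` elements of `H`, then each of them
inverts exactly that many and every coset of `H` other than `H` contains an involution. -/
theorem exists_involution_in_coset {H : Subgroup G} {t : G} (ht : IsInv t) (hAH : cent t ≤ H)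
    (hconj : ∀ s, IsInv s → s ∈ H → ∃ h ∈ H, h * t * h⁻¹ = s)
    (hall : ∀ s, IsInv s → ∃ g : G, g * t * g⁻¹ = s)
    (hbound : ∀ u, IsInv u → u ∉ H → Nat.card ↥(invertedIn H u) ≤ (cent t).relIndex H) :
    (∀ g, g ∉ H → ∃ u, IsInv u ∧ u ∉ H ∧ u⁻¹ * g ∈ H) ∧
      ∀ u, IsInv u → u ∉ H → Nat.card ↥(invertedIn H u) = (cent t).relIndex H := by
  classical
  have := Fintype.ofFinite G
  have := Fintype.ofFinite (G ⧸ H)
  have htH : t ∈ H := hAH (mem_cent.mpr (Commute.refl t))
  obtain ⟨r, hr⟩ : ∃ r, r = (cent t).relIndex H := ⟨_, rfl⟩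
  rw [← hr] at hbound ⊢
  obtain ⟨out, hout⟩ : ∃ out : Finset G, out = Finset.univ.filter fun s => IsInv s ∧ s ∉ H :=
    ⟨_, rfl⟩
  obtain ⟨pts, hpts⟩ : ∃ pts : Finset (G ⧸ H), pts = Finset.univ.erase ((1 : G) : G ⧸ H) := ⟨_, rfl⟩
  have hmemout : ∀ s, s ∈ out ↔ IsInv s ∧ s ∉ H := fun s => by simp [hout]
  have hmaps : ∀ s ∈ out, (s : G ⧸ H) ∈ pts := by
    intro s hs
    rw [hout, Finset.mem_filter] at hs
    rw [hpts, Finset.mem_erase]
    refine ⟨fun h => hs.2.2 ?_, Finset.mem_univ _⟩
    simpa using QuotientGroup.eq.mp h.symm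
  have hcardout : out.card = pts.card * r := by
    have hsplit : (Finset.univ.filter fun s : G => IsInv s).card =
        (Finset.univ.filter fun s : G => IsInv s ∧ s ∈ H).card + out.card := by
      rw [hout, ← Finset.card_union_of_disjoint]
      · congr 1
        ext s
        simp only [Finset.mem_filter, Finset.mem_univ, true_and, Finset.mem_union]
        tauto
      · rw [Finset.disjoint_filter]
        tauto
    have h1 : (Finset.univ.filter fun s : G => IsInv s ∧ s ∈ H).card = r := by
      rw [hr, ← card_invs_in ht htH hconj, Nat.card_eq_fintype_card, Fintype.card_subtype]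
    have h2 : (Finset.univ.filter fun s : G => IsInv s).card = (cent t).index := by
      rw [← relIndex_top_right, ← card_invs_in (H := ⊤) ht (mem_top t)
        (fun s hs _ => let ⟨g, hg⟩ := hall s hs; ⟨g, mem_top g, hg⟩),
        Nat.card_eq_fintype_card, Fintype.card_subtype]
      simp
    have h3 : (cent t).index = r * H.index := by
      rw [hr, relIndex_mul_index hAH]
    have h4 : pts.card + 1 = H.index := by
      rw [hpts, Finset.card_erase_add_one (Finset.mem_univ _), Finset.card_univ, index,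
        Nat.card_eq_fintype_card]
    rw [h1, h2, h3, ← h4] at hsplit
    rw [Nat.mul_succ, mul_comm r] at hsplit
    omega
  have hfib : ∀ p ∈ pts, (out.filter fun s : G => (s : G ⧸ H) = p).card ≤ r ∧
      ∀ u ∈ out.filter (fun s : G => (s : G ⧸ H) = p),
        (out.filter fun s : G => (s : G ⧸ H) = p).card ≤ Nat.card ↥(invertedIn H u) := by
    intro p _
    have key : ∀ u ∈ out.filter (fun s : G => (s : G ⧸ H) = p),
        (out.filter fun s : G => (s : G ⧸ H) = p).card ≤ Nat.card ↥(invertedIn H u) := by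
      intro u hu
      rw [Finset.mem_filter, hout, Finset.mem_filter] at hu
      rw [← Nat.card_eq_finsetCard]
      refine Nat.card_le_card_of_injective (fun v => ⟨u * v.1, ?_⟩) ?_
      · obtain ⟨hvo, hvp⟩ := Finset.mem_filter.mp v.2
        rw [hmemout] at hvo
        have hmem : u⁻¹ * v.1 ∈ H := QuotientGroup.eq.mp (hu.2.trans hvp.symm)
        rw [hu.1.2.1.inv_eq] at hmem
        refine ⟨hmem, ?_⟩
        rw [mul_inv_rev, hu.1.2.1.inv_eq, hvo.1.inv_eq,
          show u * (u * v.1) * u = u * u * (v.1 * u) by group, hu.1.2.1.1, one_mul]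
      · intro v w hvw
        exact Subtype.ext (mul_left_cancel (congrArg Subtype.val hvw))
    refine ⟨?_, key⟩
    rcases (out.filter fun s : G => (s : G ⧸ H) = p).eq_empty_or_nonempty with h | ⟨u, hu⟩
    · simp [h]
    · refine (key u hu).trans ?_
      rw [Finset.mem_filter, hout, Finset.mem_filter] at hu
      exact hbound u hu.1.2.1 hu.1.2.2
  have hsum : ∑ p ∈ pts, (out.filter fun s : G => (s : G ⧸ H) = p).card = ∑ _p ∈ pts, r := by
    rw [← Finset.card_eq_sum_card_fiberwise (fun s hs => hmaps s hs), hcardout, Finset.sum_const,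
      smul_eq_mul]
  have heach := (Finset.sum_eq_sum_iff_of_le fun p hp => (hfib p hp).1).mp hsum
  have hrpos : 0 < r := hr ▸ Nat.pos_of_ne_zero ((cent t).subgroupOf H).index_ne_zero_of_finite
  refine ⟨fun g hg => ?_, fun u hu huH => le_antisymm (hbound u hu huH) ?_⟩
  · have hp : (g : G ⧸ H) ∈ pts := by
      rw [hpts, Finset.mem_erase]
      exact ⟨fun h => hg (by simpa using QuotientGroup.eq.mp h.symm), Finset.mem_univ _⟩
    obtain ⟨u, hu⟩ := Finset.card_pos.mp (lt_of_lt_of_eq hrpos (heach _ hp).symm)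
    rw [Finset.mem_filter, hout, Finset.mem_filter] at hu
    exact ⟨u, hu.1.2.1, hu.1.2.2, QuotientGroup.eq.mp hu.2⟩
  · have huo : u ∈ out := by rw [hout]; simp [hu, huH]
    have hp := hmaps u huo
    calc r = _ := (heach _ hp).symm
      _ ≤ _ := (hfib _ hp).2 u (Finset.mem_filter.mpr ⟨huo, rfl⟩)

end Cfsg.Agent.Lib.AbelianInvCentralizer
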