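import Mathlib
import Cfsg.Agent.Lib.AbelianInvCentralizer.Count

/-!
# The two point stabilisers

`CentBound G`: every nontrivial element commuting with an involution `t` has its centraliser inside
`nz t`. Under this hypothesis `nz t` and `nz r` (for non-commuting `t`, `r`) meet in an abelian group
of odd order complementing `C(t)` in `nz t`, self-centralising and inverted by an involution
exchanging the two; and `C(t)` is regular on the other conjugates.
-/

set_option autoImplicit false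

namespace Cfsg.Agent.Lib.AbelianInvCentralizer

open Subgroup

variable {G : Type*} [Group G]

/-- The centraliser of a nontrivial element of `C(t)` lies in `nz t`. -/
def CentBound (G : Type*) [Group G] : Prop :=
  ∀ t x : G, IsInv t → Commute x t → x ≠ 1 → cent x ≤ nz t

/-- The standing hypotheses. -/
structure Data (G : Type*) [Group G] : Prop where
  abCent : HasAbelianCent G
  spread : HasSpread G
  bound : CentBound G

variable [Finite G] (D : Data G)
include D

namespace Data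

/-- The number of involutions in `C(t)`. -/
theorem invs_in_nz {t : G} (ht : IsInv t) {s : G} (hs : IsInv s) (h : s ∈ nz t) :
    ∃ g ∈ nz t, g * t * g⁻¹ = s := by
  obtain ⟨g, hg⟩ := exists_conj D.abCent D.spread ht hs
  refine ⟨g, (mem_nz_iff D.abCent ht).mpr ?_, hg⟩
  rw [hg]
  exact commute_of_mem_nz D.abCent ht hs h

theorem eq_one_of_mem_both {t s a : G} (ht : IsInv t) (hs : IsInv s) (h : ¬ Commute s t)
    (hat : Commute a t) (has : Commute a s) : a = 1 := by
  by_contra ha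
  exact h (commute_of_mem_nz D.abCent ht hs
    (D.bound t a ht hat ha (mem_cent.mpr has.symm)))

/-- A member of `nz t` commutes with none of the involutions outside unless it avoids `C(t)`. -/
theorem not_commute_conj {t u : G} (ht : IsInv t) (hu : IsInv u) (hut : u ∉ nz t) :
    ¬ Commute (u * t * u) t := by
  intro h
  refine hut ((mem_nz_iff D.abCent ht).mpr ?_)
  rwa [hu.inv_eq]

theorem injOn_invertedIn {t u : G} (ht : IsInv t) (hu : IsInv u) (hut : u ∉ nz t) :
    ∀ y ∈ invertedIn (nz t) u, ∀ z ∈ invertedIn (nz t) u, y⁻¹ * z ∈ cent t → y = z := by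
  intro y hy z hz h
  have h1 : Commute (y * (y⁻¹ * z)⁻¹ * y⁻¹) t := by
    refine mem_cent.mp ?_
    exact (mem_normalizer_iff.mp hy.1 _).mp (inv_mem h)
  have h2 : u * (y⁻¹ * z) * u = y * (y⁻¹ * z)⁻¹ * y⁻¹ := by
    have e1 : u * y⁻¹ * u = y := by
      have := congrArg (·⁻¹) hy.2
      simpa [mul_assoc, hu.inv_eq] using this
    calc u * (y⁻¹ * z) * u = u * y⁻¹ * (u * u) * z * u := by rw [hu.1]; group
      _ = (u * y⁻¹ * u) * (u * z * u) := by group
      _ = y * z⁻¹ := by rw [e1, hz.2]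
      _ = _ := by group
  have h3 : Commute (y⁻¹ * z) (u * t * u) := by
    rw [← h2] at h1
    have h4 := commute_conj u h1
    rw [hu.inv_eq] at h4
    rwa [show u * (u * (y⁻¹ * z) * u) * u = u * u * (y⁻¹ * z) * (u * u) by group, hu.1, one_mul,
      mul_one] at h4
  have h5 := D.eq_one_of_mem_both ht (by simpa [hu.inv_eq] using ht.conj u)
    (D.not_commute_conj ht hu hut) (mem_cent.mp h) h3
  exact eq_of_inv_mul_eq_one h5

theorem card_invertedIn_le {t u : G} (ht : IsInv t) (hu : IsInv u) (hut : u ∉ nz t) :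
    Nat.card ↥(invertedIn (nz t) u) ≤ (cent t).relIndex (nz t) := by
  rw [relIndex, index]
  refine Nat.card_le_card_of_injective
    (fun y => QuotientGroup.mk (s := (cent t).subgroupOf (nz t)) ⟨y.1, y.2.1⟩) ?_
  intro y z h
  exact Subtype.ext (D.injOn_invertedIn ht hu hut y y.2 z z.2
    (mem_subgroupOf.mp (QuotientGroup.eq.mp h)))

theorem coset_data {t : G} (ht : IsInv t) :
    (∀ g, g ∉ nz t → ∃ u, IsInv u ∧ u ∉ nz t ∧ u⁻¹ * g ∈ nz t) ∧
      ∀ u, IsInv u → u ∉ nz t → Nat.card ↥(invertedIn (nz t) u) = (cent t).relIndex (nz t) :=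
  exists_involution_in_coset ht (cent_le_nz D.abCent ht) (fun _ hs h => D.invs_in_nz ht hs h)
    (fun _ hs => exists_conj D.abCent D.spread ht hs) fun _ hu hut => D.card_invertedIn_le ht hu hut

/-- An involution exchanges the points of two non-commuting involutions. -/
theorem exists_swap {t r : G} (ht : IsInv t) (hr : IsInv r) (h : ¬ Commute r t) :
    ∃ u, IsInv u ∧ u ∉ nz t ∧ Commute (u * t * u) r ∧ nz r = nz (u * t * u) := by
  obtain ⟨g, hg⟩ := exists_conj D.abCent D.spread ht hr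
  obtain ⟨u, hu, hut, hug⟩ := (D.coset_data ht).1 g (fun hm => h (by
    have := (mem_nz_iff D.abCent ht).mp hm
    rwa [hg] at this))
  have h1 := commute_conj u ((mem_nz_iff D.abCent ht).mp hug)
  rw [hu.inv_eq] at h1
  rw [show u * (u * g * t * (u * g)⁻¹) * u = (u * u) * (g * t * g⁻¹) * (u⁻¹ * u) by group, hg,
    hu.1, inv_mul_cancel, one_mul, mul_one] at h1
  exact ⟨u, hu, hut, h1.symm,
    nz_eq_of_commute D.abCent hr (by simpa [hu.inv_eq] using ht.conj u) h1⟩

omit [Finite G] in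
theorem mem_nz_conj_iff {t u x : G} (ht : IsInv t) (hu : IsInv u) :
    x ∈ nz (u * t * u) ↔ u * x * u ∈ nz t := by
  have hutu : IsInv (u * t * u) := by simpa [hu.inv_eq] using ht.conj u
  rw [mem_nz_iff D.abCent hutu, mem_nz_iff D.abCent ht,
    ← commute_conj_iff u (a := x * (u * t * u) * x⁻¹), hu.inv_eq]
  refine iff_of_eq (congrArg₂ Commute ?_ ?_)
  · rw [mul_inv_rev, mul_inv_rev, hu.inv_eq]
    group
  · rw [show u * (u * t * u) * u = u * u * t * (u * u) by group, hu.1, one_mul, mul_one]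

theorem odd_orderOf {t r x : G} (ht : IsInv t) (hr : IsInv r) (h : ¬ Commute r t)
    (hx : x ∈ nz t ⊓ nz r) : Odd (orderOf x) := by
  rw [← Nat.not_even_iff_odd]
  rintro ⟨k, hk⟩
  have hpos := orderOf_pos x
  have hz : IsInv (x ^ k) :=
    ⟨by rw [← pow_add, ← hk, pow_orderOf_eq_one], pow_ne_one_of_lt_orderOf (by omega) (by omega)⟩
  have hm := pow_mem hx k
  exact h (commute_trans D.abCent hz
    (commute_of_mem_nz D.abCent hr hz (mem_inf.mp hm).2).symm
    (commute_of_mem_nz D.abCent ht hz (mem_inf.mp hm).1))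

omit [Finite G] in
/-- An element of odd order in `nz w` inverted by an involution commuting with `w` is trivial. -/
theorem eq_one_of_inverted {w v x : G} (hw : IsInv w) (hv : IsInv v) (hvw : Commute v w)
    (hx : x ∈ nz w) (hodd : Odd (orderOf x)) (hinv : v * x * v = x⁻¹) : x = 1 := by
  have h1 : Commute (x * v * x⁻¹) w := by
    refine mem_cent.mp ((mem_normalizer_iff.mp hx v).mp (mem_cent.mpr hvw))
  have h2 : x * v * x⁻¹ = x * x * v := by
    rw [← hinv, show x * v * (v * x * v) = x * (v * v) * x * v by group, hv.1, mul_one]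
  have h3 : Commute v (x * x) := by
    have h4 : Commute v (x * x * v * v⁻¹) :=
      (commute_trans D.abCent hw hvw (h2 ▸ h1).symm).mul_right (Commute.refl v).inv_right
    rwa [mul_inv_cancel_right] at h4
  have h5 : x * x = (x * x)⁻¹ := by
    calc x * x = v * (x * x) * v := by rw [h3.eq, mul_assoc, hv.1, mul_one]
      _ = v * x * (v * v) * x * v := by rw [hv.1]; group
      _ = (v * x * v) * (v * x * v) := by group
      _ = _ := by rw [hinv, mul_inv_rev]
  have h6 : x ^ 4 = 1 := by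
    calc x ^ 4 = (x * x) * (x * x) := by simp only [pow_succ, pow_zero, one_mul, mul_assoc]
      _ = 1 := mul_eq_one_iff_eq_inv.mpr h5
  refine orderOf_eq_one_iff.mp ?_
  have h7 : (orderOf x).Coprime (2 ^ 2) := (Nat.Coprime.pow_right 2 hodd.coprime_two_right)
  exact Nat.eq_one_of_dvd_coprimes h7 dvd_rfl (orderOf_dvd_of_pow_eq_one h6)

theorem inter_cent_eq_one {t r d : G} (ht : IsInv t) (hr : IsInv r) (h : ¬ Commute r t)
    (hd : Commute d t) (hdr : d ∈ nz r) : d = 1 := by
  obtain ⟨u, hu, hut, -, hnz⟩ := D.exists_swap ht hr h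
  set r' := u * t * u with hr'
  have hri : IsInv r' := by simpa [hu.inv_eq] using ht.conj u
  have hnc : ¬ Commute r' t := D.not_commute_conj ht hu hut
  rw [hnz] at hdr
  set d' := u * d * u with hd'
  have hd't : d' ∈ nz t := (D.mem_nz_conj_iff ht hu).mp hdr
  have hd'r : Commute d' r' := by
    have := commute_conj u hd
    rwa [hu.inv_eq] at this
  have hcomm : Commute d d' := by
    refine mul_inv_eq_one.mp ?_
    rw [mul_inv_rev, show d * d' * (d⁻¹ * d'⁻¹) = d * d' * d⁻¹ * d'⁻¹ by group]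
    refine D.eq_one_of_mem_both ht hri hnc ?_ ?_
    · refine mem_cent.mp ?_
      rw [show d * d' * d⁻¹ * d'⁻¹ = d * (d' * d⁻¹ * d'⁻¹) by group]
      exact mul_mem (mem_cent.mpr hd)
        ((mem_normalizer_iff.mp hd't _).mp (inv_mem (mem_cent.mpr hd)))
    · refine mem_cent.mp (mul_mem ?_ (inv_mem (mem_cent.mpr hd'r)))
      exact (mem_normalizer_iff.mp hdr _).mp (mem_cent.mpr hd'r)
  by_contra hd1
  have huc : Commute u (d * d') := by
    rw [commute_iff_eq, hd']
    calc u * (d * (u * d * u)) = (u * d * u) * d * u := by group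
      _ = d * (u * d * u) * u := by rw [← hd', hcomm.eq]
  by_cases hc : d * d' = 1
  · refine hd1 (D.eq_one_of_mem_both ht hri hnc hd ?_)
    rw [eq_inv_of_mul_eq_one_left hc]
    exact hd'r.inv_left
  · have hle := D.bound u (d * d') hu huc.symm hc
    have hdu : d ∈ nz u := hle (mem_cent.mpr ((Commute.refl d).mul_right hcomm))
    have hd'u : d' ∈ nz u := hle (mem_cent.mpr (hcomm.symm.mul_right (Commute.refl d')))
    have hodd : Odd (orderOf (d⁻¹ * d')) :=
      D.odd_orderOf ht hri hnc (mem_inf.mpr ⟨mul_mem (inv_mem (cent_le_nz D.abCent ht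
        (mem_cent.mpr hd))) hd't, mul_mem (inv_mem hdr) (cent_le_nz D.abCent hri (mem_cent.mpr hd'r))⟩)
    have hx := D.eq_one_of_inverted hu hu (Commute.refl u) (mul_mem (inv_mem hdu) hd'u) hodd (by
      rw [mul_inv_rev, inv_inv, hd']
      calc u * (d⁻¹ * (u * d * u)) * u = u * d⁻¹ * u * d * (u * u) := by group
        _ = (u * d * u)⁻¹ * d := by
            rw [hu.1, mul_one, mul_inv_rev, mul_inv_rev, hu.inv_eq]; group)
    refine hd1 (D.eq_one_of_mem_both ht hri hnc hd ?_)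
    rw [inv_mul_eq_one.mp hx]
    exact hd'r

/-- The meet of two point stabilisers is inverted by the exchanging involution. -/
theorem inter_inverted {t r : G} (ht : IsInv t) (hr : IsInv r) (h : ¬ Commute r t) :
    ∃ u, IsInv u ∧ u ∉ nz t ∧ Commute (u * t * u) r ∧
      (∀ x, x ∈ nz t ⊓ nz r ↔ x ∈ invertedIn (nz t) u) ∧
      Nat.card ↥(nz t ⊓ nz r) = (cent t).relIndex (nz t) := by
  classical
  obtain ⟨u, hu, hut, hur, hnz⟩ := D.exists_swap ht hr h
  refine ⟨u, hu, hut, hur, ?_⟩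
  have hsub : invertedIn (nz t) u ⊆ ((nz t ⊓ nz r : Subgroup G) : Set G) := by
    rintro y ⟨hy, hy'⟩
    refine mem_inf.mpr ⟨hy, ?_⟩
    rw [hnz, D.mem_nz_conj_iff ht hu, hy']
    exact inv_mem hy
  have hinj : ∀ y ∈ nz t ⊓ nz r, ∀ z ∈ nz t ⊓ nz r, y⁻¹ * z ∈ cent t → y = z := by
    intro y hy z hz hyz
    exact eq_of_inv_mul_eq_one (D.inter_cent_eq_one ht hr h (mem_cent.mp hyz)
      (mul_mem (inv_mem (mem_inf.mp hy).2) (mem_inf.mp hz).2))
  have hle : Nat.card ↥(nz t ⊓ nz r) ≤ (cent t).relIndex (nz t) := by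
    rw [relIndex, index]
    refine Nat.card_le_card_of_injective
      (fun y => QuotientGroup.mk (s := (cent t).subgroupOf (nz t)) ⟨y.1, (mem_inf.mp y.2).1⟩) ?_
    intro y z hyz
    exact Subtype.ext (hinj y y.2 z z.2 (mem_subgroupOf.mp (QuotientGroup.eq.mp hyz)))
  have hJ := (D.coset_data ht).2 u hu hut
  rw [← SetLike.coe_sort_coe, Nat.card_coe_set_eq] at hle ⊢
  rw [Nat.card_coe_set_eq] at hJ
  have heq : invertedIn (nz t) u = ((nz t ⊓ nz r : Subgroup G) : Set G) :=
    Set.eq_of_subset_of_ncard_le hsub (hJ ▸ hle) (Set.toFinite _)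
  exact ⟨fun x => by rw [heq]; rfl, by rw [← heq, hJ]⟩

theorem inter_commute {t r x y : G} (ht : IsInv t) (hr : IsInv r) (h : ¬ Commute r t)
    (hx : x ∈ nz t ⊓ nz r) (hy : y ∈ nz t ⊓ nz r) : Commute x y := by
  obtain ⟨u, hu, -, -, hK, -⟩ := D.inter_inverted ht hr h
  have h1 := ((hK _).mp hx).2
  have h2 := ((hK _).mp hy).2
  have h3 := ((hK _).mp (mul_mem hx hy)).2
  have h4 : x⁻¹ * y⁻¹ = (x * y)⁻¹ := by
    rw [← h1, ← h2, ← h3, show u * x * u * (u * y * u) = u * x * (u * u) * y * u by group, hu.1]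
    group
  rw [mul_inv_rev] at h4
  have h5 := congrArg (·⁻¹) h4
  simp only [mul_inv_rev, inv_inv] at h5
  exact h5.symm

/-- An involution commuting with `t` inverts no nontrivial element of `nz t ⊓ nz r`. -/
theorem eq_one_of_inverted_inter {t r x v : G} (ht : IsInv t) (hr : IsInv r) (h : ¬ Commute r t)
    (hx : x ∈ nz t ⊓ nz r) (hv : IsInv v) (hvt : Commute v t) (hinv : v * x * v = x⁻¹) : x = 1 :=
  D.eq_one_of_inverted ht hv hvt (mem_inf.mp hx).1 (D.odd_orderOf ht hr h hx) hinv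

/-- The centraliser of a nontrivial element of a two point stabiliser is inverted. -/
theorem cent_inverted {t r x : G} (ht : IsInv t) (hr : IsInv r) (h : ¬ Commute r t)
    (hx : x ∈ nz t ⊓ nz r) (hx1 : x ≠ 1) {u : G} (hu : IsInv u) (hinv : u * x * u = x⁻¹) :
    ∀ y, Commute y x → u * y * u = y⁻¹ := by
  have hodd := D.odd_orderOf ht hr h hx
  have hmaps : ∀ y, Commute y x → Commute (u * y * u) x := by
    intro y hy
    have h1 := commute_conj u hy
    rw [hu.inv_eq, hinv, Commute.inv_right_iff] at h1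
    exact h1
  have hfix : ∀ c, Commute c x → u * c * u = c → c = 1 := by
    intro c hc hcu
    by_contra hc1
    have hcu' : Commute c u := by
      calc c * u = u * c * u * u := by rw [hcu]
        _ = u * c := by rw [mul_assoc, hu.1, mul_one]
    exact hx1 (D.eq_one_of_inverted hu hu (Commute.refl u)
      (D.bound u c hu hcu' hc1 (mem_cent.mpr hc.symm)) hodd hinv)
  let f : cent x → cent x := fun c => ⟨(c : G)⁻¹ * (u * c * u),
    mul_mem (inv_mem c.2) (mem_cent.mpr (hmaps _ (mem_cent.mp c.2)))⟩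
  have hf : Function.Injective f := by
    intro a b hab
    have h1 : (a : G)⁻¹ * (u * a * u) = (b : G)⁻¹ * (u * b * u) := congrArg Subtype.val hab
    refine Subtype.ext (mul_inv_eq_one.mp (hfix _ (mem_cent.mp (mul_mem a.2 (inv_mem b.2))) ?_))
    calc u * ((a : G) * (b : G)⁻¹) * u
        = (a : G) * ((a : G)⁻¹ * (u * a * u)) * ((b : G)⁻¹ * (u * b * u))⁻¹ * (b : G)⁻¹ := by
          rw [mul_inv_rev, mul_inv_rev, mul_inv_rev, hu.inv_eq, inv_inv]
          calc u * ((a : G) * (b : G)⁻¹) * u = u * a * (u * u) * (b : G)⁻¹ * u := by rw [hu.1]; group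
            _ = _ := by group
      _ = _ := by rw [h1, mul_inv_cancel_right]
  intro y hy
  obtain ⟨c, hc⟩ := (Finite.injective_iff_surjective.mp hf) ⟨y, mem_cent.mpr hy⟩
  obtain rfl : (c : G)⁻¹ * (u * c * u) = y := congrArg Subtype.val hc
  show u * ((c : G)⁻¹ * (u * c * u)) * u = ((c : G)⁻¹ * (u * c * u))⁻¹
  rw [mul_inv_rev, mul_inv_rev, mul_inv_rev, hu.inv_eq, inv_inv]
  calc u * ((c : G)⁻¹ * (u * c * u)) * u = u * (c : G)⁻¹ * u * c * (u * u) := by group
    _ = _ := by rw [hu.1, mul_one]; group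

/-- A nontrivial element fixes at most two points. -/
theorem commute_of_three {t r s x : G} (ht : IsInv t) (hr : IsInv r) (hs : IsInv s)
    (h : ¬ Commute r t) (hx : x ∈ nz t ⊓ nz r) (hxs : x ∈ nz s) (hx1 : x ≠ 1) :
    Commute s t ∨ Commute s r := by
  by_contra hno
  push Not at hno
  obtain ⟨w0, hw0, -, hw0r, hK0, -⟩ := D.inter_inverted ht hr h
  obtain ⟨w1, hw1, -, hw1s, hK1, -⟩ := D.inter_inverted ht hs hno.1
  obtain ⟨w2, hw2, -, hw2s, hK2, -⟩ := D.inter_inverted hr hs hno.2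
  have i0 := ((hK0 x).mp hx).2
  have i1 := ((hK1 x).mp (mem_inf.mpr ⟨(mem_inf.mp hx).1, hxs⟩)).2
  have i2 := ((hK2 x).mp (mem_inf.mpr ⟨(mem_inf.mp hx).2, hxs⟩)).2
  have iinv : ∀ {w}, IsInv w → w * x * w = x⁻¹ → w * x⁻¹ * w = x := by
    intro w hw hwx
    have := congrArg (·⁻¹) hwx
    simpa [mul_assoc, hw.inv_eq] using this
  have hy : ∀ {a b}, IsInv a → IsInv b → a * x * a = x⁻¹ → b * x * b = x⁻¹ → Commute (a * b) x := by
    intro a b ha hb hax hbx
    rw [commute_iff_eq, ← mul_inv_eq_iff_eq_mul, mul_inv_rev, ha.inv_eq, hb.inv_eq,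
      show a * b * x * (b * a) = a * (b * x * b) * a by group, hbx, iinv ha hax]
  -- `w1 w0` carries the point of `r` to that of `s`; `w2 w0` carries that of `t` to that of `s`
  set y1 := w1 * w0 with hy1
  set y2 := w2 * w0 with hy2
  have hc : Commute (y2⁻¹ * y1) x := (hy hw2 hw0 i2 i0).inv_left.mul_left (hy hw1 hw0 i1 i0)
  have hyinv := D.cent_inverted ht hr h hx hx1 hw0 i0 _ hc
  have hv : IsInv (y2⁻¹ * y1 * w0) := by
    refine ⟨?_, fun he => ?_⟩
    · rw [show y2⁻¹ * y1 * w0 * (y2⁻¹ * y1 * w0) = y2⁻¹ * y1 * (w0 * (y2⁻¹ * y1) * w0) by group,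
        hyinv, mul_inv_cancel]
    · have h1 : w0 = (y2⁻¹ * y1)⁻¹ := eq_inv_of_mul_eq_one_right he
      have h2 : Commute w0 x := h1 ▸ hc.inv_left
      rw [h2.eq, mul_assoc, hw0.1, mul_one] at i0
      have hodd := D.odd_orderOf ht hr h hx
      have h3 : orderOf x ∣ 2 := orderOf_dvd_of_pow_eq_one (by
        rw [pow_two]; exact mul_eq_one_iff_eq_inv.mpr i0)
      exact hx1 (orderOf_eq_one_iff.mp
        (Nat.eq_one_of_dvd_coprimes hodd.coprime_two_right dvd_rfl h3))
  have hvx : y2⁻¹ * y1 * w0 * x * (y2⁻¹ * y1 * w0) = x⁻¹ := by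
    calc y2⁻¹ * y1 * w0 * x * (y2⁻¹ * y1 * w0)
        = y2⁻¹ * y1 * (w0 * x * w0) * (w0⁻¹ * (y2⁻¹ * y1) * w0) := by group
      _ = y2⁻¹ * y1 * x⁻¹ * (y2⁻¹ * y1)⁻¹ := by rw [i0, hw0.inv_eq, hyinv]
      _ = _ := by rw [hc.inv_right.eq, mul_inv_cancel_right]
  refine hx1 (D.eq_one_of_inverted_inter ht hr h hx hv (commute_of_mem_nz D.abCent ht hv ?_) hvx)
  rw [mem_nz_iff D.abCent ht]
  have hw0t : nz (w0 * t * w0) = nz r :=
    nz_eq_of_commute D.abCent (by simpa [hw0.inv_eq] using ht.conj w0) hr hw0r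
  -- `w1` carries `t` to `s`, and so does `w2 w0`
  have e1 : y2⁻¹ * y1 * w0 = w0 * w2 * w1 := by
    rw [hy1, hy2, mul_inv_rev, hw0.inv_eq, hw2.inv_eq]
    calc w0 * w2 * (w1 * w0) * w0 = w0 * w2 * w1 * (w0 * w0) := by group
      _ = _ := by rw [hw0.1, mul_one]
  rw [e1]
  have c1 : Commute (w2 * (w1 * t * w1) * w2) r := by
    have h2 := commute_conj w2 hw2s
    rw [hw2.inv_eq, show w2 * (w2 * r * w2) * w2 = w2 * w2 * r * (w2 * w2) by group, hw2.1, one_mul,
      mul_one] at h2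
    have h3 := commute_conj w2 hw1s
    rw [hw2.inv_eq] at h3
    exact commute_trans D.abCent (by simpa [hw2.inv_eq] using hs.conj w2) h3 h2.symm
  have c2 := commute_conj w0 c1
  rw [hw0.inv_eq] at c2
  have c3 : Commute (w0 * r * w0) t := by
    have h2 := commute_conj w0 hw0r
    rw [hw0.inv_eq, show w0 * (w0 * t * w0) * w0 = w0 * w0 * t * (w0 * w0) by group, hw0.1, one_mul,
      mul_one] at h2
    exact h2.symm
  have c4 := commute_trans D.abCent (by simpa [hw0.inv_eq] using hr.conj w0) c2 c3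
  rwa [mul_inv_rev, mul_inv_rev, hw0.inv_eq, hw1.inv_eq, hw2.inv_eq,
    show w0 * w2 * w1 * t * (w1 * (w2 * w0)) = w0 * (w2 * (w1 * t * w1) * w2) * w0 by group]

/-- An element centralising a nontrivial element of a two point stabiliser does not exchange the
two points. -/
theorem not_exchange {t r x y : G} (ht : IsInv t) (hr : IsInv r) (h : ¬ Commute r t)
    (hx : x ∈ nz t ⊓ nz r) (hx1 : x ≠ 1) (hy : Commute y x) : ¬ Commute (y * r * y⁻¹) t := by
  intro hc
  obtain ⟨u, hu, hut, hur, hK, -⟩ := D.inter_inverted ht hr h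
  have hux := ((hK x).mp hx).2
  have hinvy := D.cent_inverted ht hr h hx hx1 hu hux y hy
  -- the involution `y u` inverts `x`
  have hv : IsInv (y * u) := by
    refine ⟨by rw [show y * u * (y * u) = y * (u * y * u) by group, hinvy, mul_inv_cancel],
      fun he => ?_⟩
    have h2 : Commute u x := by
      rw [eq_inv_of_mul_eq_one_right he]; exact hy.inv_left
    rw [h2.eq, mul_assoc, hu.1, mul_one] at hux
    exact hx1 (orderOf_eq_one_iff.mp (Nat.eq_one_of_dvd_coprimes
      (D.odd_orderOf ht hr h hx).coprime_two_right dvd_rfl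
      (orderOf_dvd_of_pow_eq_one (by rw [pow_two]; exact mul_eq_one_iff_eq_inv.mpr hux))))
  have hvx : y * u * x * (y * u) = x⁻¹ := by
    calc y * u * x * (y * u) = y * (u * x * u) * (u⁻¹ * y * u) := by group
      _ = y * x⁻¹ * y⁻¹ := by rw [hux, hu.inv_eq, hinvy]
      _ = _ := by rw [hy.inv_right.eq, mul_inv_cancel_right]
  refine hx1 (D.eq_one_of_inverted_inter ht hr h hx hv (commute_of_mem_nz D.abCent ht hv ?_) hvx)
  rw [mem_nz_iff D.abCent ht]
  have h1 := commute_conj y hur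
  rw [mul_inv_rev, hu.inv_eq, show y * u * t * (u * y⁻¹) = y * (u * t * u) * y⁻¹ by group]
  exact commute_trans D.abCent (hr.conj y) h1 hc

/-- Two point stabilisers are self-centralising. -/
theorem cent_le_inter {t r x : G} (ht : IsInv t) (hr : IsInv r) (h : ¬ Commute r t)
    (hx : x ∈ nz t ⊓ nz r) (hx1 : x ≠ 1) : cent x ≤ nz t ⊓ nz r := by
  intro y hy
  have hxy : y * x * y⁻¹ = x := by rw [(mem_cent.mp hy).eq, mul_inv_cancel_right]
  have moved : ∀ {a}, IsInv a → x ∈ nz a → x ∈ nz (y * a * y⁻¹) := by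
    intro a ha hxa
    rw [mem_nz_iff D.abCent (ha.conj y)]
    have h1 := commute_conj y ((mem_nz_iff D.abCent ha).mp hxa)
    rwa [show y * (x * a * x⁻¹) * y⁻¹ = (y * x * y⁻¹) * (y * a * y⁻¹) * (y * x * y⁻¹)⁻¹ by group,
      hxy] at h1
  have hnv := D.not_exchange ht hr h hx hx1 (mem_cent.mp hy)
  have hnv' := D.not_exchange hr ht (fun h' => h h'.symm)
    (mem_inf.mpr ⟨(mem_inf.mp hx).2, (mem_inf.mp hx).1⟩) hx1 (mem_cent.mp hy)
  refine mem_inf.mpr ⟨?_, ?_⟩
  · rcases D.commute_of_three ht hr (ht.conj y) h hx (moved ht (mem_inf.mp hx).1) hx1 with hc | hc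
    · exact (mem_nz_iff D.abCent ht).mpr hc
    · exact absurd hc hnv'
  · rcases D.commute_of_three ht hr (hr.conj y) h hx (moved hr (mem_inf.mp hx).2) hx1 with hc | hc
    · exact absurd hc hnv
    · exact (mem_nz_iff D.abCent hr).mpr hc

/-- The centraliser of `t` is transitive on the other points. -/
theorem exists_cent_conj {t r r' : G} (ht : IsInv t) (hr : IsInv r) (hr' : IsInv r')
    (h : ¬ Commute r t) (h' : ¬ Commute r' t) (he : 2 ≤ (cent t).relIndex (nz t)) :
    ∃ a, Commute a t ∧ Commute (a * r * a⁻¹) r' := by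
  classical
  obtain ⟨-, -, -, -, -, hc⟩ := D.inter_inverted ht hr h
  obtain ⟨-, -, -, -, -, hc'⟩ := D.inter_inverted ht hr' h'
  obtain ⟨⟨x, hx⟩, hxne⟩ : ∃ x : ↥(nz t ⊓ nz r), x ≠ 1 := by
    have : Nontrivial ↥(nz t ⊓ nz r) := Finite.one_lt_card_iff_nontrivial.mp (by omega)
    exact exists_ne 1
  have hx1 : x ≠ 1 := fun he => hxne (Subtype.ext he)
  -- an element of the other two point stabiliser in the same coset
  let f : ↥(nz t ⊓ nz r') → ↥(nz t) ⧸ (cent t).subgroupOf (nz t) :=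
    fun y => QuotientGroup.mk ⟨y.1, (mem_inf.mp y.2).1⟩
  have hf : Function.Injective f := fun y z hyz => Subtype.ext (eq_of_inv_mul_eq_one
    (D.inter_cent_eq_one ht hr' h' (mem_cent.mp (mem_subgroupOf.mp (QuotientGroup.eq.mp hyz)))
      (mul_mem (inv_mem (mem_inf.mp y.2).2) (mem_inf.mp z.2).2)))
  have hsurj : Function.Surjective f := (hf.bijective_of_nat_card_le (by
    rw [hc', relIndex, index])).2
  obtain ⟨⟨x', hx'⟩, hxx⟩ := hsurj (QuotientGroup.mk ⟨x, (mem_inf.mp hx).1⟩)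
  have hb : x'⁻¹ * x ∈ cent t := mem_subgroupOf.mp (QuotientGroup.eq.mp hxx)
  -- the map `a ↦ x⁻¹ a x a⁻¹` of `C(t)` is injective
  let g : cent t → cent t := fun a => ⟨x⁻¹ * a * x * (a : G)⁻¹, mul_mem (by
    have h1 := (mem_normalizer_iff.mp (inv_mem (mem_inf.mp hx).1) (a : G)).mp a.2
    rwa [inv_inv] at h1) (inv_mem a.2)⟩
  have hg : Function.Injective g := by
    intro a b hab
    have h1 : x⁻¹ * a * x * (a : G)⁻¹ = x⁻¹ * b * x * (b : G)⁻¹ := congrArg Subtype.val hab
    refine Subtype.ext (inv_mul_eq_one.mp ?_).symm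
    have h2 : Commute ((b : G)⁻¹ * a) x := by
      calc (b : G)⁻¹ * a * x = (b : G)⁻¹ * x * (x⁻¹ * a * x * (a : G)⁻¹) * a := by group
        _ = (b : G)⁻¹ * x * (x⁻¹ * b * x * (b : G)⁻¹) * a := by rw [h1]
        _ = _ := by group
    exact D.inter_cent_eq_one ht hr h (mem_cent.mp (mul_mem (inv_mem b.2) a.2))
      (mem_inf.mp (D.cent_le_inter ht hr h hx hx1 (mem_cent.mpr h2))).2
  obtain ⟨a, ha⟩ := (Finite.injective_iff_surjective.mp hg) ⟨x⁻¹ * x', by
    have h1 := inv_mem hb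
    rwa [mul_inv_rev, inv_inv] at h1⟩
  have hax : (a : G) * x * (a : G)⁻¹ = x' := by
    have h1 : x⁻¹ * a * x * (a : G)⁻¹ = x⁻¹ * x' := congrArg Subtype.val ha
    calc (a : G) * x * (a : G)⁻¹ = x * (x⁻¹ * a * x * (a : G)⁻¹) := by group
      _ = x' := by rw [h1, mul_inv_cancel_left]
  refine ⟨a, mem_cent.mp a.2, ?_⟩
  have hx'1 : x' ≠ 1 := by
    rw [← hax]; exact fun he => hx1 (conj_eq_one_iff.mp he)
  have hmem : x' ∈ nz ((a : G) * r * (a : G)⁻¹) := by
    rw [mem_nz_iff D.abCent (hr.conj _), ← hax]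
    have h1 := commute_conj (a : G) ((mem_nz_iff D.abCent hr).mp (mem_inf.mp hx).2)
    rwa [show (a : G) * (x * r * x⁻¹) * (a : G)⁻¹ = (a : G) * x * (a : G)⁻¹ * ((a : G) * r * (a : G)⁻¹)
      * ((a : G) * x * (a : G)⁻¹)⁻¹ by group] at h1
  rcases D.commute_of_three ht hr' (hr.conj _) h' hx' hmem hx'1 with hc1 | hc1
  · exfalso
    refine h (commute_conj_iff (a : G) |>.mp ?_)
    rwa [(mem_cent.mp a.2).eq, mul_inv_cancel_right]
  · exact hc1

end Data

end Cfsg.Agent.Lib.AbelianInvCentralizer
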