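import Mathlib
import Cfsg.Prelude.Def_LieExceptional
import Cfsg.Agent.S0885
import Cfsg.Agent.Lib.AbelianInvCentralizer.TwoPoint

/-!
# The action on the cosets of the normaliser of an involution centraliser

With two commuting involutions present this action is sharply triply transitive of degree
`|C(t)| + 1`, and `C(t)` is elementary abelian.
-/

set_option autoImplicit false

namespace Cfsg.Agent.Lib.AbelianInvCentralizer

open Subgroup MulAction

variable {G : Type*} [Group G] [Finite G] (D : Data G)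
include D

namespace Data

omit [Finite G] in
theorem stabilizer_mk {t : G} (ht : IsInv t) (g : G) :
    stabilizer G (g : G ⧸ nz t) = nz (g * t * g⁻¹) := by
  ext x
  rw [mem_stabilizer_iff, Quotient.smul_mk, QuotientGroup.eq, mem_nz_iff D.abCent ht,
    mem_nz_iff D.abCent (ht.conj g), smul_eq_mul, ← commute_conj_iff g]
  rw [show g * ((x * g)⁻¹ * g * t * ((x * g)⁻¹ * g)⁻¹) * g⁻¹ = x⁻¹ * (g * t * g⁻¹) * x by group]
  rw [← commute_conj_iff x, show x * (x⁻¹ * (g * t * g⁻¹) * x) * x⁻¹ = g * t * g⁻¹ by group]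
  exact ⟨fun h => h.symm, fun h => h.symm⟩

omit [Finite G] in
theorem mk_eq_iff {t : G} (ht : IsInv t) (g g' : G) :
    (g : G ⧸ nz t) = g' ↔ Commute (g' * t * g'⁻¹) (g * t * g⁻¹) := by
  rw [QuotientGroup.eq, mem_nz_iff D.abCent ht, ← commute_conj_iff g]
  rw [show g * (g⁻¹ * g' * t * (g⁻¹ * g')⁻¹) * g⁻¹ = g' * t * g'⁻¹ by group]

omit [Finite G] in
theorem mk_ne_one_iff {t : G} (ht : IsInv t) (g : G) :
    (g : G ⧸ nz t) ≠ ((1 : G) : G ⧸ nz t) ↔ ¬ Commute (g * t * g⁻¹) t := by
  rw [ne_comm, ne_eq, D.mk_eq_iff ht]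
  simp

theorem exists_outside {t : G} (ht : IsInv t) :
    ∃ g : G, ¬ Commute (g * t * g⁻¹) t := by
  obtain ⟨u, hu, hut⟩ := exists_not_commute D.abCent D.spread ht
  obtain ⟨g, hg⟩ := exists_conj D.abCent D.spread ht hu
  exact ⟨g, hg ▸ hut⟩

/-- `C(t)` is regular on the points other than its own. -/
theorem bijective_orbit {t : G} (ht : IsInv t) (he : 2 ≤ (cent t).relIndex (nz t)) {g0 : G}
    (hg0 : ¬ Commute (g0 * t * g0⁻¹) t) :
    (∀ a : G, Commute a t → (a • (g0 : G ⧸ nz t)) = (g0 : G ⧸ nz t) → a = 1) ∧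
    ∀ p : G ⧸ nz t, p ≠ ((1 : G) : G ⧸ nz t) → ∃ a : G, Commute a t ∧ a • (g0 : G ⧸ nz t) = p := by
  refine ⟨fun a ha h => ?_, fun p hp => ?_⟩
  · rw [← mem_stabilizer_iff, D.stabilizer_mk ht] at h
    exact D.inter_cent_eq_one ht (ht.conj g0) hg0 ha h
  · induction p using QuotientGroup.induction_on with | H g => ?_
    rw [D.mk_ne_one_iff ht] at hp
    obtain ⟨a, ha, ha'⟩ := D.exists_cent_conj ht (ht.conj g0) (ht.conj g) hg0 hp he
    refine ⟨a, ha, ?_⟩
    rw [Quotient.smul_mk, D.mk_eq_iff ht, smul_eq_mul]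
    rw [show a * g0 * t * (a * g0)⁻¹ = a * (g0 * t * g0⁻¹) * a⁻¹ by group]
    exact ha'.symm

theorem card_points {t : G} (ht : IsInv t) (he : 2 ≤ (cent t).relIndex (nz t)) :
    Nat.card (G ⧸ nz t) = Nat.card ↥(cent t) + 1 := by
  classical
  have := Fintype.ofFinite (G ⧸ nz t)
  obtain ⟨g0, hg0⟩ := D.exists_outside ht
  obtain ⟨hinj, hsurj⟩ := D.bijective_orbit ht he hg0
  let f : Option ↥(cent t) → G ⧸ nz t := fun o =>
    o.elim ((1 : G) : G ⧸ nz t) fun a => (a : G) • (g0 : G ⧸ nz t)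
  have hne : ∀ a : ↥(cent t), (a : G) • (g0 : G ⧸ nz t) ≠ ((1 : G) : G ⧸ nz t) := by
    intro a h
    have h1 : ((a : G)⁻¹ : G) • ((1 : G) : G ⧸ nz t) = ((1 : G) : G ⧸ nz t) := by
      rw [← mem_stabilizer_iff, D.stabilizer_mk ht]
      simpa using inv_mem (cent_le_nz D.abCent ht a.2)
    rw [← h, inv_smul_smul] at h1
    exact (D.mk_ne_one_iff ht g0).mpr hg0 (h1.trans h)
  have hf : Function.Bijective f := by
    constructor
    · rintro (_ | a) (_ | b) hab
      · rfl
      · exact absurd hab.symm (hne b)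
      · exact absurd hab (hne a)
      · refine congrArg some (Subtype.ext (inv_mul_eq_one.mp ?_).symm)
        refine hinj _ (mem_cent.mp (mul_mem (inv_mem b.2) a.2)) ?_
        have hab' : (a : G) • (g0 : G ⧸ nz t) = (b : G) • (g0 : G ⧸ nz t) := hab
        rw [mul_smul, hab', inv_smul_smul]
    · intro p
      by_cases hp : p = ((1 : G) : G ⧸ nz t)
      · exact ⟨none, hp.symm⟩
      · obtain ⟨a, ha, rfl⟩ := hsurj p hp
        exact ⟨some ⟨a, mem_cent.mpr ha⟩, rfl⟩
  rw [← Nat.card_eq_of_bijective f hf, Finite.card_option]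

variable (hF : HasFour G)
include hF

theorem three_le_relIndex {t : G} (ht : IsInv t) : 3 ≤ (cent t).relIndex (nz t) := by
  classical
  rw [← card_invs_in ht (cent_le_nz D.abCent ht (mem_cent.mpr (Commute.refl t)))
    fun s hs h => D.invs_in_nz ht hs h]
  obtain ⟨a, b, ha, hb, hne, hab⟩ := hF
  obtain ⟨g, hg⟩ := exists_conj D.abCent D.spread ha ht
  set s := g * b * g⁻¹ with hsdef
  have hts : Commute t s := hg ▸ commute_conj g hab
  have hs : IsInv s := hb.conj g
  have hne' : t ≠ s := fun h => hne (mul_left_cancel (mul_right_cancel (hg.trans h)))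
  have hts' := ht.mul hs hts hne'
  have hm : ∀ {w}, Commute w t → w ∈ nz t := fun h => cent_le_nz D.abCent ht (mem_cent.mpr h)
  have key : ({t, s, t * s} : Finset G).card = 3 := by
    rw [Finset.card_insert_of_notMem, Finset.card_pair]
    · intro h
      exact ht.2 (mul_eq_right.mp h.symm)
    · simp only [Finset.mem_insert, Finset.mem_singleton, not_or]
      exact ⟨hne', fun h => hs.2 (mul_eq_left.mp h.symm)⟩
  rw [← key, ← Nat.card_eq_finsetCard]
  refine Nat.card_le_card_of_injective (fun w => ⟨w.1, ?_⟩) fun v w h => Subtype.ext (congrArg (·.1) h)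
  have hw := w.2
  simp only [Finset.mem_insert, Finset.mem_singleton] at hw
  rcases hw with h | h | h
  · rw [h]; exact ⟨ht, hm (Commute.refl t)⟩
  · rw [h]; exact ⟨hs, hm hts.symm⟩
  · rw [h]; exact ⟨hts', hm ((Commute.refl t).mul_left hts.symm)⟩

/-- The standard facts: `|C(t)| = e + 1`, `C(t)` of exponent two, `e` odd and at least three. -/
theorem facts {t : G} (ht : IsInv t) :
    Nat.card ↥(cent t) = (cent t).relIndex (nz t) + 1 ∧ (∀ a, Commute a t → a * a = 1) ∧
      Odd ((cent t).relIndex (nz t)) ∧ 3 ≤ (cent t).relIndex (nz t) ∧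
      Cfsg.IsZassenhausGroup G (G ⧸ nz t) := by
  classical
  have := Fintype.ofFinite (G ⧸ nz t)
  have he3 := D.three_le_relIndex hF ht
  have he : 2 ≤ (cent t).relIndex (nz t) := by omega
  obtain ⟨g0, hg0⟩ := D.exists_outside ht
  obtain ⟨hinj, hsurj⟩ := D.bijective_orbit ht he hg0
  have hpts := D.card_points ht he
  obtain ⟨-, -, -, -, -, hKcard⟩ := D.inter_inverted ht (ht.conj g0) hg0
  have hodd : Odd ((cent t).relIndex (nz t)) := by
    rw [← hKcard, ← Nat.not_even_iff_odd]
    intro hev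
    obtain ⟨⟨x, hx⟩, hxo⟩ := exists_prime_orderOf_dvd_card' (G := ↥(nz t ⊓ nz (g0 * t * g0⁻¹))) 2
      hev.two_dvd
    rw [Subgroup.orderOf_mk] at hxo
    have := D.odd_orderOf ht (ht.conj g0) hg0 hx
    rw [hxo] at this
    exact absurd this (by decide)
  -- elementary part of `C(t)`
  let E : Subgroup G :=
    { carrier := {a | Commute a t ∧ a * a = 1}
      mul_mem' := fun {a b} ha hb => ⟨ha.1.mul_left hb.1, by
        have hab : Commute b a := D.abCent t ht b a hb.1 ha.1
        rw [hab.mul_mul_mul_comm, ha.2, hb.2, mul_one]⟩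
      one_mem' := ⟨Commute.one_left t, mul_one 1⟩
      inv_mem' := fun {a} ha => ⟨ha.1.inv_left, by rw [← mul_inv_rev, ha.2, inv_one]⟩ }
  have hE : Nat.card ↥E = (cent t).relIndex (nz t) + 1 := by
    have h1 : Nat.card ↥E = Nat.card (Option {s : G // IsInv s ∧ s ∈ nz t}) := by
      refine Nat.card_congr
        { toFun := fun a => if h : (a : G) = 1 then none else
            some ⟨a, ⟨a.2.2, h⟩, cent_le_nz D.abCent ht (mem_cent.mpr a.2.1)⟩
          invFun := fun o => o.elim 1 fun s =>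
            ⟨s.1, commute_of_mem_nz D.abCent ht s.2.1 s.2.2, s.2.1.1⟩
          left_inv := fun a => ?_
          right_inv := fun o => ?_ }
      · by_cases h : (a : G) = 1
        · simp only [dif_pos h, Option.elim]
          exact Subtype.ext h.symm
        · simp only [dif_neg h, Option.elim]
      · rcases o with _ | s
        · simp
        · simp [s.2.1.2]
    rw [h1, Finite.card_option,
      card_invs_in ht (cent_le_nz D.abCent ht (mem_cent.mpr (Commute.refl t)))
        fun s hs h => D.invs_in_nz ht hs h]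
  have hEA : E ≤ cent t := fun a ha => mem_cent.mpr ha.1
  -- the Zassenhaus property
  have hZ : Cfsg.IsZassenhausGroup G (G ⧸ nz t) := by
    have hthree : ∀ g : G, ∀ a b c : G ⧸ nz t, a ≠ b → b ≠ c → a ≠ c → g • a = a → g • b = b →
        g • c = c → g = 1 := by
      intro g a b c hab hbc hac ha hb hc
      induction a using QuotientGroup.induction_on with | H a => ?_
      induction b using QuotientGroup.induction_on with | H b => ?_
      induction c using QuotientGroup.induction_on with | H c => ?_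
      rw [← mem_stabilizer_iff, D.stabilizer_mk ht] at ha hb hc
      rw [ne_eq, D.mk_eq_iff ht] at hab hbc hac
      by_contra hg
      rcases D.commute_of_three (ht.conj a) (ht.conj b) (ht.conj c) hab (mem_inf.mpr ⟨ha, hb⟩) hc hg
        with h | h
      · exact hac h
      · exact hbc h
    have h2 : IsMultiplyPretransitive G (G ⧸ nz t) 2 := by
      rw [is_two_pretransitive_iff]
      suffices key : ∀ a b : G ⧸ nz t, a ≠ b → ∃ g : G, g • ((1 : G) : G ⧸ nz t) = a ∧
          g • (g0 : G ⧸ nz t) = b by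
        intro a b c d hab hcd
        obtain ⟨g, hga, hgb⟩ := key a b hab
        obtain ⟨k, hkc, hkd⟩ := key c d hcd
        exact ⟨k * g⁻¹, by rw [mul_smul, ← hga, inv_smul_smul, hkc],
          by rw [mul_smul, ← hgb, inv_smul_smul, hkd]⟩
      intro a b hab
      obtain ⟨g, rfl⟩ := exists_smul_eq G ((1 : G) : G ⧸ nz t) a
      obtain ⟨k, hk, hkb⟩ := hsurj (g⁻¹ • b) (fun h => hab (by rw [← h, smul_inv_smul]))
      refine ⟨g * k, ?_, by rw [mul_smul, hkb, smul_inv_smul]⟩
      rw [mul_smul]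
      congr 1
      rw [← mem_stabilizer_iff, D.stabilizer_mk ht]
      simpa using cent_le_nz D.abCent ht (mem_cent.mpr hk)
    refine ⟨⟨fun {g h} hgh => ?_⟩, h2, hthree, ?_, fun N hN htr => ?_⟩
    · have h1 : ∀ p : G ⧸ nz t, (h⁻¹ * g) • p = p := fun p => by rw [mul_smul, hgh p, inv_smul_smul]
      have hfour : 2 < Fintype.card (G ⧸ nz t) := by
        rw [← Nat.card_eq_fintype_card, hpts]
        have := Nat.le_of_dvd Nat.card_pos (card_dvd_of_le hEA)
        omega
      obtain ⟨a, b, c, hab, hac, hbc⟩ := Fintype.two_lt_card_iff.mp hfour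
      exact (inv_mul_eq_one.mp (hthree _ a b c hab hbc hac (h1 a) (h1 b) (h1 c))).symm
    · have : Nontrivial ↥(nz t ⊓ nz (g0 * t * g0⁻¹)) :=
        Finite.one_lt_card_iff_nontrivial.mp (by omega)
      obtain ⟨⟨x, hx⟩, hxne⟩ := exists_ne (1 : ↥(nz t ⊓ nz (g0 * t * g0⁻¹)))
      refine ⟨x, fun h => hxne (Subtype.ext h), ((1 : G) : G ⧸ nz t), (g0 : G ⧸ nz t),
        ((D.mk_ne_one_iff ht g0).mpr hg0).symm, ?_, ?_⟩
      · rw [← mem_stabilizer_iff, D.stabilizer_mk ht]
        simpa using (mem_inf.mp hx).1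
      · rw [← mem_stabilizer_iff, D.stabilizer_mk ht]
        exact (mem_inf.mp hx).2
    · by_contra hno
      push Not at hno
      -- a regular normal subgroup would be inverted by two commuting involutions
      have hfree : ∀ n : G, n ∈ N → Commute n t → n = 1 := by
        intro n hn hnt
        have h0 : n • ((1 : G) : G ⧸ nz t) = ((1 : G) : G ⧸ nz t) := by
          rw [← mem_stabilizer_iff, D.stabilizer_mk ht]
          simpa using cent_le_nz D.abCent ht (mem_cent.mpr hnt)
        exact congrArg Subtype.val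
          ((eq_bot_iff_forall _).mp (hno ((1 : G) : G ⧸ nz t)) ⟨n, hn⟩ h0)
      have hinv : ∀ s, IsInv s → Commute s t → ∀ n ∈ N, s * n * s = n⁻¹ := by
        intro s hs hst n hn
        have hm : ∀ k ∈ N, s * k * s ∈ N := fun k hk => by
          have := hN.conj_mem k hk s
          rwa [hs.inv_eq] at this
        let f : N → N := fun k => ⟨(k : G)⁻¹ * (s * k * s), mul_mem (inv_mem k.2) (hm _ k.2)⟩
        have hf : Function.Injective f := by
          intro a b hab
          have h1 : (a : G)⁻¹ * (s * a * s) = (b : G)⁻¹ * (s * b * s) := congrArg Subtype.val hab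
          refine Subtype.ext (mul_inv_eq_one.mp (hfree _ (mul_mem a.2 (inv_mem b.2)) ?_))
          have h2 : Commute ((a : G) * (b : G)⁻¹) s := by
            calc (a : G) * (b : G)⁻¹ * s
                = (a : G) * ((a : G)⁻¹ * (s * a * s)) * ((b : G)⁻¹ * (s * b * s))⁻¹ * (b : G)⁻¹ * s := by
                  rw [h1, mul_inv_cancel_right]
              _ = s * a * (s * s⁻¹) * (b : G)⁻¹ * (s⁻¹ * s) := by group
              _ = _ := by group
          exact commute_trans D.abCent hs h2 hst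
        obtain ⟨c, hc⟩ := Finite.injective_iff_surjective.mp hf ⟨n, hn⟩
        obtain rfl : (c : G)⁻¹ * (s * c * s) = n := congrArg Subtype.val hc
        rw [mul_inv_rev, mul_inv_rev, mul_inv_rev, hs.inv_eq, inv_inv]
        calc s * ((c : G)⁻¹ * (s * c * s)) * s = s * (c : G)⁻¹ * s * c * (s * s) := by group
          _ = _ := by rw [hs.1, mul_one]; group
      obtain ⟨a, b, ha, hb, hne, hab⟩ := hF
      obtain ⟨g, hg⟩ := exists_conj D.abCent D.spread ha ht
      set s := g * b * g⁻¹ with hsdef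
      have hts : Commute t s := hg ▸ commute_conj g hab
      have hs : IsInv s := hb.conj g
      have hne' : t ≠ s := fun h => hne (mul_left_cancel (mul_right_cancel (hg.trans h)))
      obtain ⟨n, hn⟩ := htr.exists_smul_eq ((1 : G) : G ⧸ nz t) (g0 : G ⧸ nz t)
      have hn1 : (n : G) = 1 := by
        refine hfree n n.2 ?_
        have h1 := hinv t ht (Commute.refl t) n n.2
        have h2 := hinv s hs hts.symm n n.2
        have h3 : Commute (n : G) (t * s) := by
          have h4 := congrArg (·⁻¹) h1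
          simp only [mul_inv_rev, ht.inv_eq, inv_inv] at h4
          calc (n : G) * (t * s) = (t * ((n : G)⁻¹ * t)) * (t * s) := by rw [h4]
            _ = t * (n : G)⁻¹ * (t * t) * s := by group
            _ = t * (n : G)⁻¹ * s := by rw [ht.1, mul_one]
            _ = t * (s * n * s) * s := by rw [h2]
            _ = t * s * n * (s * s) := by group
            _ = t * s * n := by rw [hs.1, mul_one]
        exact commute_trans D.abCent (ht.mul hs hts hne') h3 ((Commute.refl t).mul_left hts.symm)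
      refine (D.mk_ne_one_iff ht g0).mpr hg0 ?_
      rw [← hn, Subgroup.smul_def, hn1, one_smul]
  -- Feit's bound
  have hKstab : Nat.card ↥(stabilizer G ((1 : G) : G ⧸ nz t) ⊓ stabilizer G (g0 : G ⧸ nz t)
      : Subgroup G) = (cent t).relIndex (nz t) := by
    rw [D.stabilizer_mk ht, D.stabilizer_mk ht, one_mul, inv_one, mul_one]
    exact hKcard
  have hfeit := Cfsg.Agent.S0885.result hZ ((D.mk_ne_one_iff ht g0).mpr hg0).symm
    (Nat.card ↥(cent t)) _ (by rw [← Nat.card_eq_fintype_card, hpts]) hKstab hodd (cent t)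
    (by rw [D.stabilizer_mk ht]; simpa using cent_le_nz D.abCent ht)
    (by rw [← Nat.card_eq_fintype_card, hpts])
    (fun a ha ha1 c hc => by
      by_contra hc1
      induction c using QuotientGroup.induction_on with | H c => ?_
      rw [← mem_stabilizer_iff, D.stabilizer_mk ht] at hc
      exact ha1 (D.inter_cent_eq_one ht (ht.conj c) ((D.mk_ne_one_iff ht c).mp hc1)
        (mem_cent.mp ha) hc))
  rcases hfeit with hbd | ⟨-, ⟨⟨a, ha⟩, ⟨b, hb⟩, hab⟩, -⟩
  swap
  · exact absurd (Subtype.ext (commute_of_mem_cent D.abCent ht ha hb).eq) hab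
  obtain ⟨c, hc⟩ := card_dvd_of_le hEA
  have hpos : 0 < Nat.card ↥(cent t) := Nat.card_pos
  rw [hE] at hc
  obtain rfl : c = 1 := by
    rcases c with _ | _ | c
    · rw [mul_zero] at hc; omega
    · rfl
    · exfalso
      have : ((cent t).relIndex (nz t) + 1) * 2 ≤ ((cent t).relIndex (nz t) + 1) * (c + 1 + 1) :=
        Nat.mul_le_mul_left _ (by omega)
      omega
  rw [mul_one] at hc
  have hEeq : E = cent t := eq_of_le_of_card_ge hEA (by rw [hc, hE])
  exact ⟨hc, fun a ha => (show a ∈ E by rw [hEeq]; exact mem_cent.mpr ha).2, hodd, he3, hZ⟩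

theorem index_nz {t : G} (ht : IsInv t) : (nz t).index = (cent t).relIndex (nz t) + 2 := by
  rw [index, D.card_points ht (by linarith [D.three_le_relIndex hF ht]), (D.facts hF ht).1]

/-- A subgroup of odd order has order less than `e (e + 2)`. -/
theorem card_lt_of_odd {t : G} (ht : IsInv t) (W : Subgroup G) (hW : Odd (Nat.card ↥W)) :
    Nat.card ↥W < (cent t).relIndex (nz t) * ((cent t).relIndex (nz t) + 2) := by
  classical
  obtain ⟨hA, hexp, hodd, he3, -⟩ := D.facts hF ht
  have hidx := D.index_nz hF ht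
  set e := (cent t).relIndex (nz t) with hedef
  have hWA : ∀ a, a ∈ W → Commute a t → a = 1 := by
    intro a ha hat
    have h2 : orderOf a ∣ 2 := orderOf_dvd_of_pow_eq_one (by rw [pow_two]; exact hexp a hat)
    exact orderOf_eq_one_iff.mp (Nat.eq_one_of_dvd_coprimes hW.coprime_two_right
      (W.orderOf_dvd_natCard ha) h2)
  have hle : Nat.card ↥(W ⊓ nz t) ≤ e := by
    rw [hedef, relIndex, index]
    refine Nat.card_le_card_of_injective
      (fun y => QuotientGroup.mk (s := (cent t).subgroupOf (nz t)) ⟨y.1, (mem_inf.mp y.2).2⟩) ?_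
    intro y z hyz
    exact Subtype.ext (eq_of_inv_mul_eq_one (hWA _
      (mul_mem (inv_mem (mem_inf.mp y.2).1) (mem_inf.mp z.2).1)
      (mem_cent.mp (mem_subgroupOf.mp (QuotientGroup.eq.mp hyz)))))
  have hrel : (W ⊓ nz t).relIndex W ≤ e + 2 := by
    rw [inf_relIndex_left, ← hidx]
    rw [← relIndex_top_right]
    exact relIndex_le_of_le_right le_top (by rw [relIndex_top_right]; exact index_ne_zero_of_finite)
  have hmul : Nat.card ↥W = Nat.card ↥(W ⊓ nz t) * (W ⊓ nz t).relIndex W := by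
    rw [← relIndex_bot_left, ← relIndex_bot_left, relIndex_mul_relIndex _ _ _ bot_le inf_le_left]
  by_contra hge
  push Not at hge
  have hK : Nat.card ↥(W ⊓ nz t) = e ∧ (W ⊓ nz t).relIndex W = e + 2 := by
    constructor <;> nlinarith
  -- hence `W` is transitive on the points
  have htrans : ∀ g : G, ∃ w ∈ W, w⁻¹ * g ∈ nz t := by
    intro g
    let f : ↥W ⧸ (nz t).subgroupOf W → G ⧸ nz t := Quotient.map Subtype.val fun a b hab => by
      exact QuotientGroup.leftRel_apply.mpr (mem_subgroupOf.mp (QuotientGroup.leftRel_apply.mp hab))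
    have hf : Function.Injective f := by
      rintro ⟨a⟩ ⟨b⟩ hab
      exact QuotientGroup.eq.mpr (mem_subgroupOf.mpr (QuotientGroup.eq.mp hab))
    have hsurj := (hf.bijective_of_nat_card_le (by
      rw [← index, ← index, ← relIndex, ← inf_relIndex_left, hK.2, hidx])).2
    obtain ⟨w, hw⟩ := hsurj (g : G ⧸ nz t)
    induction w using QuotientGroup.induction_on with | H w => ?_
    exact ⟨w, w.2, QuotientGroup.eq.mp hw⟩
  -- `W ∩ nz t` fixes a second point
  obtain ⟨g0, hg0⟩ := D.exists_outside ht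
  set r := g0 * t * g0⁻¹ with hr
  have hri : IsInv r := ht.conj g0
  obtain ⟨-, -, -, -, -, hKc⟩ := D.inter_inverted ht hri hg0
  have : Nontrivial ↥(W ⊓ nz t) := Finite.one_lt_card_iff_nontrivial.mp (by omega)
  obtain ⟨⟨k, hk⟩, hkne⟩ := exists_ne (1 : ↥(W ⊓ nz t))
  have hk1 : k ≠ 1 := fun h => hkne (Subtype.ext h)
  -- reduce modulo `C(t)` to a two point stabiliser
  have hrep : ∀ y ∈ nz t, ∃ z ∈ nz t ⊓ nz r, z⁻¹ * y ∈ cent t := by
    intro y hy
    let f : ↥(nz t ⊓ nz r) → ↥(nz t) ⧸ (cent t).subgroupOf (nz t) :=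
      fun z => QuotientGroup.mk ⟨z.1, (mem_inf.mp z.2).1⟩
    have hf : Function.Injective f := fun z z' hzz => Subtype.ext (eq_of_inv_mul_eq_one
      (D.inter_cent_eq_one ht hri hg0 (mem_cent.mp (mem_subgroupOf.mp (QuotientGroup.eq.mp hzz)))
        (mul_mem (inv_mem (mem_inf.mp z.2).2) (mem_inf.mp z'.2).2)))
    obtain ⟨z, hz⟩ := (hf.bijective_of_nat_card_le (by rw [hKc, relIndex, index])).2
      (QuotientGroup.mk ⟨y, hy⟩)
    exact ⟨z, z.2, mem_subgroupOf.mp (QuotientGroup.eq.mp hz)⟩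
  obtain ⟨x, hx, hxk⟩ := hrep k (mem_inf.mp hk).2
  have hx1 : x ≠ 1 := fun h => hk1 (hWA k (mem_inf.mp hk).1
    (mem_cent.mp (by simpa [h] using hxk)))
  -- `k` is a conjugate of `x` under `C(t)`
  let g : cent t → cent t := fun a => ⟨x⁻¹ * a * x * (a : G)⁻¹, mul_mem (by
    have h1 := (mem_normalizer_iff.mp (inv_mem (mem_inf.mp hx).1) (a : G)).mp a.2
    rwa [inv_inv] at h1) (inv_mem a.2)⟩
  have hg : Function.Injective g := by
    intro a b hab
    have h1 : x⁻¹ * a * x * (a : G)⁻¹ = x⁻¹ * b * x * (b : G)⁻¹ := congrArg Subtype.val hab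
    refine Subtype.ext (inv_mul_eq_one.mp ?_).symm
    have h2 : Commute ((b : G)⁻¹ * a) x := by
      calc (b : G)⁻¹ * a * x = (b : G)⁻¹ * x * (x⁻¹ * a * x * (a : G)⁻¹) * a := by group
        _ = (b : G)⁻¹ * x * (x⁻¹ * b * x * (b : G)⁻¹) * a := by rw [h1]
        _ = _ := by group
    exact D.inter_cent_eq_one ht hri hg0 (mem_cent.mp (mul_mem (inv_mem b.2) a.2))
      (mem_inf.mp (D.cent_le_inter ht hri hg0 hx hx1 (mem_cent.mpr h2))).2
  obtain ⟨a, ha⟩ := (Finite.injective_iff_surjective.mp hg) ⟨x⁻¹ * k, hxk⟩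
  have hax : (a : G) * x * (a : G)⁻¹ = k := by
    have h1 : x⁻¹ * a * x * (a : G)⁻¹ = x⁻¹ * k := congrArg Subtype.val ha
    calc (a : G) * x * (a : G)⁻¹ = x * (x⁻¹ * a * x * (a : G)⁻¹) := by group
      _ = k := by rw [h1, mul_inv_cancel_left]
  set r2 := (a : G) * r * (a : G)⁻¹ with hr2
  have hr2i : IsInv r2 := hri.conj a
  have hnc : ¬ Commute r2 t := fun h => hg0 ((commute_conj_iff (a : G)).mp (by
    rwa [(mem_cent.mp a.2).eq, mul_inv_cancel_right]))
  have hkr2 : k ∈ nz r2 := by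
    rw [mem_nz_iff D.abCent hr2i, ← hax]
    have h1 := commute_conj (a : G) ((mem_nz_iff D.abCent hri).mp (mem_inf.mp hx).2)
    rwa [show (a : G) * (x * r * x⁻¹) * (a : G)⁻¹
      = (a : G) * x * (a : G)⁻¹ * ((a : G) * r * (a : G)⁻¹) * ((a : G) * x * (a : G)⁻¹)⁻¹ by group] at h1
  obtain ⟨-, -, -, -, -, hKc2⟩ := D.inter_inverted ht hr2i hnc
  have hab : ∀ y ∈ W ⊓ nz t, ∀ z ∈ W ⊓ nz t, Commute y z := by
    intro y hy z hz
    obtain ⟨y', hy', hyc⟩ := hrep y (mem_inf.mp hy).2
    obtain ⟨z', hz', hzc⟩ := hrep z (mem_inf.mp hz).2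
    refine mul_inv_eq_one.mp (hWA _ ?_ (mem_cent.mp ?_))
    · exact mul_mem (mul_mem (mem_inf.mp hy).1 (mem_inf.mp hz).1)
        (inv_mem (mul_mem (mem_inf.mp hz).1 (mem_inf.mp hy).1))
    · have hn : ((cent t).subgroupOf (nz t)).Normal := normal_in_normalizer
      let π := QuotientGroup.mk' ((cent t).subgroupOf (nz t))
      have e1 : π ⟨y', (mem_inf.mp hy').1⟩ = π ⟨y, (mem_inf.mp hy).2⟩ :=
        QuotientGroup.eq.mpr (mem_subgroupOf.mpr hyc)
      have e2 : π ⟨z', (mem_inf.mp hz').1⟩ = π ⟨z, (mem_inf.mp hz).2⟩ :=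
        QuotientGroup.eq.mpr (mem_subgroupOf.mpr hzc)
      have e3 : Commute (π ⟨y, (mem_inf.mp hy).2⟩) (π ⟨z, (mem_inf.mp hz).2⟩) := by
        rw [← e1, ← e2]
        exact Commute.map (Subtype.ext (D.inter_commute ht hri hg0 hy' hz').eq) π
      have e4 := mul_inv_eq_one.mpr e3.eq
      rw [← map_mul, ← map_mul, ← map_inv, ← map_mul] at e4
      exact mem_subgroupOf.mp ((QuotientGroup.eq_one_iff _).mp e4)
  have hWK : W ⊓ nz t = nz t ⊓ nz r2 := by
    refine eq_of_le_of_card_ge (fun y hy => ?_) (by rw [hKc2, hK.1])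
    exact D.cent_le_inter ht hr2i hnc (mem_inf.mpr ⟨(mem_inf.mp hk).2, hkr2⟩) hk1
      (mem_cent.mpr (hab y hy k hk))
  -- an element of `W` carrying the point of `t` to that of `r2`
  obtain ⟨g1, hg1⟩ := exists_conj D.abCent D.spread ht hr2i
  obtain ⟨w, hw, hwg⟩ := htrans g1
  have hwt : Commute (w * t * w⁻¹) r2 := by
    rw [← hg1]
    have h1 := commute_conj w ((mem_nz_iff D.abCent ht).mp hwg)
    rw [show w * (w⁻¹ * g1 * t * (w⁻¹ * g1)⁻¹) * w⁻¹ = g1 * t * g1⁻¹ by group] at h1
    exact h1.symm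
  have hwr2 : IsInv (w * r2 * w⁻¹) := hr2i.conj w
  -- `w k' w⁻¹` fixes the point of `r2`, so it lies in `W ∩ nz t`
  have hconj : (W ⊓ nz t).map (MulAut.conj w).toMonoidHom = W ⊓ nz r2 := by
    rw [← nz_eq_of_commute D.abCent (ht.conj w) hr2i hwt]
    ext y
    rw [mem_map_equiv, mem_inf, mem_inf, MulAut.conj_symm_apply]
    refine and_congr ⟨fun h => ?_, fun h => mul_mem (mul_mem (inv_mem hw) h) hw⟩ ?_
    · have h1 := mul_mem (mul_mem hw h) (inv_mem hw)
      rwa [show w * (w⁻¹ * y * w) * w⁻¹ = y by group] at h1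
    · rw [mem_nz_iff D.abCent (ht.conj w), mem_nz_iff D.abCent ht, ← commute_conj_iff w]
      rw [show w * (w⁻¹ * y * w * t * (w⁻¹ * y * w)⁻¹) * w⁻¹ = y * (w * t * w⁻¹) * y⁻¹ by group]
  have heq : W ⊓ nz r2 = W ⊓ nz t := by
    refine (eq_of_le_of_card_ge (fun y hy => ?_) ?_).symm
    · exact mem_inf.mpr ⟨(mem_inf.mp hy).1, (mem_inf.mp (hWK ▸ hy : y ∈ nz t ⊓ nz r2)).2⟩
    · rw [← hconj, Subgroup.card_map_of_injective (MulAut.conj w).injective]
  have hkw : k ∈ nz (w * r2 * w⁻¹) := by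
    have h1 : k ∈ (W ⊓ nz t).map (MulAut.conj w).toMonoidHom := by rw [hconj, heq]; exact hk
    rw [mem_map_equiv, MulAut.conj_symm_apply] at h1
    have h2 := (mem_inf.mp (hWK ▸ h1 : w⁻¹ * k * w ∈ nz t ⊓ nz r2)).2
    rw [mem_nz_iff D.abCent hwr2]
    have h3 := commute_conj w ((mem_nz_iff D.abCent hr2i).mp h2)
    rwa [show w * (w⁻¹ * k * w * r2 * (w⁻¹ * k * w)⁻¹) * w⁻¹ = k * (w * r2 * w⁻¹) * k⁻¹ by group]
      at h3
  rcases D.commute_of_three ht hr2i hwr2 hnc (mem_inf.mpr ⟨(mem_inf.mp hk).2, hkr2⟩) hkw hk1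
    with hc | hc
  · -- `w` exchanges the two points
    have h2 : Commute (w * (w * t * w⁻¹) * w⁻¹) t :=
      commute_trans D.abCent hwr2 (commute_conj w hwt) hc
    have hw2 : w * w ∈ nz t := (mem_nz_iff D.abCent ht).mpr (by
      rwa [show w * w * t * (w * w)⁻¹ = w * (w * t * w⁻¹) * w⁻¹ by group])
    obtain ⟨m, hm⟩ : Odd (orderOf w) := hW.of_dvd_nat (W.orderOf_dvd_natCard hw)
    have hwN : w ∈ nz t := by
      have h3 : (w * w) ^ (m + 1) = w := by
        rw [← pow_two, ← pow_mul, show 2 * (m + 1) = orderOf w + 1 by omega, pow_succ,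
          pow_orderOf_eq_one, one_mul]
      rw [← h3]
      exact pow_mem hw2 _
    have h3 := (mem_nz_iff D.abCent ht).mp hwN
    exact hnc (commute_trans D.abCent (ht.conj w) hwt.symm h3)
  · exact hnc ((commute_conj_iff w).mp (commute_trans D.abCent hr2i hc hwt.symm))

end Data

end Cfsg.Agent.Lib.AbelianInvCentralizer
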