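import Mathlib
import Cfsg.Agent.Lib.AbelianInvCentralizer.Sharp

/-!
# The quotient by the centre, and the bound on centralisers

The centre has odd order, the quotient by it satisfies the same hypotheses and has trivial centre;
in a group with trivial centre the centraliser of a nontrivial element of `C(t)` lies in `nz t`.
-/

set_option autoImplicit false

namespace Cfsg.Agent.Lib.AbelianInvCentralizer

open Subgroup

universe u

variable {G : Type u} [Group G] [Finite G] (hC : HasAbelianCent G) (hS : HasSpread G)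
include hC hS

omit [Finite G] in
theorem not_isInv_center {z : G} (hz : z ∈ center G) : ¬ IsInv z := fun hi => by
  obtain ⟨a, b, -, -, hab⟩ := hS
  exact hab (hC z hi a b (mem_center_iff.mp hz a) (mem_center_iff.mp hz b))

theorem odd_center {z : G} (hz : z ∈ center G) : Odd (orderOf z) := by
  rw [← Nat.not_even_iff_odd]
  rintro ⟨k, hk⟩
  have hpos := orderOf_pos z
  exact not_isInv_center hC hS (pow_mem hz k)
    ⟨by rw [← pow_add, ← hk, pow_orderOf_eq_one], pow_ne_one_of_lt_orderOf (by omega) (by omega)⟩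

/-- An element commuting with all involutions is central. -/
theorem mem_center_of_commute_all {y : G} (hy : ∀ s, IsInv s → Commute y s) : y ∈ center G := by
  obtain ⟨t, u, ht, hu, htu⟩ := id hS
  set M := closure {s : G | IsInv s} with hM
  have hyM : M ≤ centralizer ({y} : Set G) :=
    (closure_le _).mpr fun s hs => mem_centralizer_singleton_iff.mpr (hy s hs).symm
  have hmem : ∀ {s}, IsInv s → s ∈ M := fun h => subset_closure h
  rw [mem_center_iff]
  intro g
  obtain ⟨m, hm, hmg⟩ := exists_conj_in hC ht hu (hmem ht) (hmem hu) htu ht (ht.conj g) (hmem ht)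
    (hmem (ht.conj g))
  have ha : Commute (m⁻¹ * g) t := by
    calc m⁻¹ * g * t = m⁻¹ * (g * t * g⁻¹) * g := by group
      _ = m⁻¹ * (m * t * m⁻¹) * g := by rw [hmg]
      _ = t * (m⁻¹ * g) := by group
  have h1 : Commute (m * (m⁻¹ * g)) y :=
    (mem_centralizer_singleton_iff.mp (hyM hm) : m * y = y * m) |> fun h =>
      Commute.mul_left h (hC t ht _ _ ha (hy t ht))
  rwa [mul_inv_cancel_left] at h1

theorem exists_lift_inv {s : G ⧸ center G} (hs : IsInv s) :
    ∃ r : G, IsInv r ∧ QuotientGroup.mk' (center G) r = s := by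
  obtain ⟨g, rfl⟩ := QuotientGroup.mk'_surjective _ s
  have hz : g * g ∈ center G := by
    rw [← QuotientGroup.eq_one_iff]
    simpa using hs.1
  obtain ⟨m, hm⟩ := odd_center hC hS hz
  have himg : QuotientGroup.mk' (center G) (g ^ (2 * m + 1)) = QuotientGroup.mk' (center G) g := by
    rw [map_pow, pow_succ, pow_mul, pow_two, hs.1, one_pow, one_mul]
  refine ⟨g ^ (2 * m + 1), ⟨?_, fun h => hs.2 ?_⟩, himg⟩
  · rw [← pow_two, ← pow_mul, mul_comm, pow_mul, pow_two, ← hm, pow_orderOf_eq_one]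
  · rw [← himg, h, map_one]

omit [Finite G] in
theorem commute_of_mk {a s : G} (hs : IsInv s)
    (h : Commute (QuotientGroup.mk' (center G) a) (QuotientGroup.mk' (center G) s)) : Commute a s := by
  set z := s⁻¹ * (a * s * a⁻¹) with hz
  have hzc : z ∈ center G := by
    rw [← QuotientGroup.eq_one_iff]
    show QuotientGroup.mk' (center G) z = 1
    simp only [hz, map_mul, map_inv]
    rw [h.eq]
    group
  have h1 : a * s * a⁻¹ = s * z := by rw [hz, mul_inv_cancel_left]
  have h2 : z * z = 1 := by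
    have h3 := (hs.conj a).1
    rw [h1, show s * z * (s * z) = s * (z * s) * z by group, ← mem_center_iff.mp hzc s,
      show s * (s * z) * z = s * s * (z * z) by group, hs.1, one_mul] at h3
    exact h3
  have hz1 : z = 1 := by
    by_contra hne
    exact not_isInv_center hC hS hzc ⟨h2, hne⟩
  rw [hz1, mul_one] at h1
  exact mul_inv_eq_iff_eq_mul.mp h1

omit [Finite G] in
theorem isInv_mk {s : G} (hs : IsInv s) : IsInv (QuotientGroup.mk' (center G) s) :=
  ⟨by rw [← map_mul, hs.1, map_one], fun h => not_isInv_center hC hS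
    ((QuotientGroup.eq_one_iff s).mp h) hs⟩

theorem hasAbelianCent_quotient : HasAbelianCent (G ⧸ center G) := by
  intro s hs a b ha hb
  obtain ⟨r, hr, rfl⟩ := exists_lift_inv hC hS hs
  obtain ⟨a, rfl⟩ := QuotientGroup.mk'_surjective _ a
  obtain ⟨b, rfl⟩ := QuotientGroup.mk'_surjective _ b
  exact (hC r hr a b (commute_of_mk hC hS hr ha) (commute_of_mk hC hS hr hb)).map
    (QuotientGroup.mk' (center G))

theorem hasSpread_quotient : HasSpread (G ⧸ center G) := by
  obtain ⟨a, b, ha, hb, hab⟩ := id hS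
  exact ⟨_, _, isInv_mk hC hS ha, isInv_mk hC hS hb, fun h => hab (commute_of_mk hC hS hb h)⟩

theorem center_quotient_eq_bot : center (G ⧸ center G) = ⊥ := by
  rw [eq_bot_iff]
  intro y hy
  obtain ⟨y, rfl⟩ := QuotientGroup.mk'_surjective _ y
  refine mem_bot.mpr ((QuotientGroup.eq_one_iff y).mpr ?_)
  exact mem_center_of_commute_all hC hS fun s hs => commute_of_mk hC hS hs (mem_center_iff.mp hy _).symm

theorem hasFour_quotient (hF : HasFour G) : HasFour (G ⧸ center G) := by
  obtain ⟨t, s, ht, hs, hne, hts⟩ := hF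
  refine ⟨_, _, isInv_mk hC hS ht, isInv_mk hC hS hs, fun h => ?_, hts.map _⟩
  have h1 : t * s ∈ center G := by
    rw [← QuotientGroup.eq_one_iff]
    show QuotientGroup.mk' (center G) (t * s) = 1
    rw [map_mul, h, ← map_mul, hs.1, map_one]
  exact not_isInv_center hC hS h1 (ht.mul hs hts hne)

theorem map_cent {t : G} (ht : IsInv t) :
    (cent t).map (QuotientGroup.mk' (center G)) = cent (QuotientGroup.mk' (center G) t) := by
  ext y
  constructor
  · rintro ⟨a, ha, rfl⟩
    exact mem_cent.mpr ((mem_cent.mp ha).map _)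
  · intro hy
    obtain ⟨a, rfl⟩ := QuotientGroup.mk'_surjective _ y
    exact ⟨a, mem_cent.mpr (commute_of_mk hC hS ht (mem_cent.mp hy)), rfl⟩

omit hC hS in
theorem centBound_aux (n : ℕ) : ∀ (G : Type u) [Group G] [Finite G], Nat.card G ≤ n →
    HasAbelianCent G → HasSpread G → HasFour G → center G = ⊥ → CentBound G := by
  induction n using Nat.strong_induction_on with
  | _ n ih =>
  intro G _ _ hn hC hS hF hZ
  classical
  by_contra hbad
  obtain ⟨bad, hbaddef⟩ : ∃ bad : G → Prop, bad = fun x =>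
      x ≠ 1 ∧ ∃ t, IsInv t ∧ Commute x t ∧ ¬ cent x ≤ nz t := ⟨_, rfl⟩
  obtain ⟨x0, hx0⟩ : ∃ x, bad x := by
    rw [hbaddef]
    simp only [CentBound] at hbad
    push Not at hbad
    obtain ⟨t, x, ht, hxt, hx1, hle⟩ := hbad
    exact ⟨x, hx1, t, ht, hxt, hle⟩
  obtain ⟨x, hx, hmax⟩ : ∃ x, bad x ∧ ∀ z, bad z → Nat.card ↥(cent z) ≤ Nat.card ↥(cent x) := by
    have := Fintype.ofFinite G
    obtain ⟨x, hx, hmax⟩ := Finset.exists_max_image (Finset.univ.filter bad)
      (fun z => Nat.card ↥(cent z)) ⟨x0, by simp [hx0]⟩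
    exact ⟨x, by simpa using hx, fun z hz => hmax z (by simp [hz])⟩
  rw [hbaddef] at hx
  obtain ⟨hx1, t, ht, hxt, hxle⟩ := hx
  set H := cent x with hH
  have htH : t ∈ H := mem_cent.mpr hxt.symm
  have hAH : cent t ≤ H := fun a ha => mem_cent.mpr (hC t ht a x (mem_cent.mp ha) hxt)
  obtain ⟨h, hh, hht⟩ := SetLike.not_le_iff_exists.mp hxle
  have hspr : ¬ Commute t (h * t * h⁻¹) := fun hc => hht ((mem_nz_iff hC ht).mpr hc.symm)
  have ht'H : h * t * h⁻¹ ∈ H := mul_mem (mul_mem hh htH) (inv_mem hh)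
  have hconjH : ∀ s, IsInv s → s ∈ H → ∃ g ∈ H, g * t * g⁻¹ = s := fun s hs hsH =>
    exists_conj_in hC ht (ht.conj h) htH ht'H hspr ht hs htH hsH
  have hcentH : ∀ s, IsInv s → s ∈ H → cent s ≤ H := by
    intro s hs hsH
    obtain ⟨g, hg, rfl⟩ := hconjH s hs hsH
    intro a ha
    rw [cent_conj, mem_map_equiv, MulAut.conj_symm_apply] at ha
    have := mul_mem (mul_mem hg (hAH ha)) (inv_mem hg)
    rwa [show g * (g⁻¹ * a * g) * g⁻¹ = a by group] at this
  have hHne : H ≠ ⊤ := fun he => hx1 (mem_bot.mp (hZ ▸ mem_center_iff.mpr fun g =>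
    mem_cent.mp (he ▸ mem_top g : g ∈ H)))
  obtain ⟨u0, hu0, hu0H⟩ : ∃ u, IsInv u ∧ u ∉ H := by
    by_contra hno
    push Not at hno
    exact hx1 (mem_bot.mp (hZ ▸ mem_center_of_commute_all hC hS fun s hs =>
      (mem_cent.mp (hno s hs)).symm))
  -- the hypotheses inside `H` and modulo its centre
  have hinvH : ∀ {s : ↥H}, IsInv s → IsInv (s : G) := fun {s} hs =>
    ⟨congrArg Subtype.val hs.1, fun h => hs.2 (Subtype.ext h)⟩
  have hCH : HasAbelianCent ↥H := fun s hs a b ha hb => Subtype.ext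
    (hC s (hinvH hs) a b (congrArg Subtype.val ha.eq) (congrArg Subtype.val hb.eq)).eq
  have hmk : ∀ {s : G} (hs : IsInv s) (hsH : s ∈ H), IsInv (⟨s, hsH⟩ : ↥H) := fun hs hsH =>
    ⟨Subtype.ext hs.1, fun h => hs.2 (congrArg Subtype.val h)⟩
  have hSH : HasSpread ↥H := ⟨⟨t, htH⟩, ⟨_, ht'H⟩, hmk ht htH, hmk (ht.conj h) ht'H,
    fun hc => hspr (congrArg Subtype.val hc.eq)⟩
  have hFH : HasFour ↥H := by
    obtain ⟨a, b, ha, hb, hne, hab⟩ := id hF
    obtain ⟨g, hg⟩ := exists_conj hC hS ha ht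
    have hts : Commute t (g * b * g⁻¹) := hg ▸ commute_conj g hab
    have hsH : g * b * g⁻¹ ∈ H := hAH (mem_cent.mpr hts.symm)
    exact ⟨⟨t, htH⟩, ⟨_, hsH⟩, hmk ht htH, hmk (hb.conj g) hsH, fun he => hne (mul_left_cancel
      (mul_right_cancel (hg.trans (congrArg Subtype.val he)))), Subtype.ext hts.eq⟩
  set π := QuotientGroup.mk' (center ↥H) with hπ
  have hlt : Nat.card ↥H < Nat.card G := lt_of_le_of_ne
    (Nat.le_of_dvd Nat.card_pos H.card_subgroup_dvd_card) fun he => hHne (eq_top_of_card_eq H he)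
  have hDH : Data (↥H ⧸ center ↥H) :=
    ⟨hasAbelianCent_quotient hCH hSH, hasSpread_quotient hCH hSH,
      ih (Nat.card ↥H) (lt_of_lt_of_le hlt hn) _ (card_quotient_dvd_card _ |> Nat.le_of_dvd Nat.card_pos)
        (hasAbelianCent_quotient hCH hSH) (hasSpread_quotient hCH hSH) (hasFour_quotient hCH hSH hFH)
        (center_quotient_eq_bot hCH hSH)⟩
  have hFq := hasFour_quotient hCH hSH hFH
  have htq : IsInv (π ⟨t, htH⟩) := isInv_mk hCH hSH (hmk ht htH)
  set e := (cent (π ⟨t, htH⟩)).relIndex (nz (π ⟨t, htH⟩)) with he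
  have hr : (cent t).relIndex H = e * (e + 2) := by
    have hidx : (cent (π ⟨t, htH⟩)).index = ((cent t).subgroupOf H).index := by
      have hsub : (cent t).subgroupOf H = cent (⟨t, htH⟩ : ↥H) := by
        ext a
        rw [mem_subgroupOf, mem_cent, mem_cent]
        exact ⟨fun h => Subtype.ext h.eq, fun h => congrArg Subtype.val h.eq⟩
      rw [hsub, hπ, ← map_cent hCH hSH (hmk ht htH),
        index_map_eq _ (QuotientGroup.mk'_surjective _)]
      rw [QuotientGroup.ker_mk']
      exact center_le_centralizer _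
    rw [relIndex, ← hidx, ← relIndex_mul_index (cent_le_nz hDH.abCent htq), hDH.index_nz hFq htq]
  -- the bound on inverted elements
  have hstrict : ∀ u, IsInv u → u ∉ H → Nat.card ↥(invertedIn H u) < (cent t).relIndex H := by
    intro u hu huH
    set W : Subgroup ↥H := (H.map (MulAut.conj u).toMonoidHom).subgroupOf H with hW
    have hWodd : Odd (Nat.card ↥W) := by
      rw [← Nat.not_even_iff_odd]
      intro hev
      obtain ⟨⟨s, hs⟩, hso⟩ := exists_prime_orderOf_dvd_card' (G := ↥W) 2 hev.two_dvd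
      rw [Subgroup.orderOf_mk] at hso
      have hsi : IsInv (s : G) := hinvH (isInv_iff.mpr hso)
      rw [hW, mem_subgroupOf, mem_map_equiv, MulAut.conj_symm_apply] at hs
      have hs' : IsInv (u⁻¹ * (s : G) * u) := by simpa using hsi.conj u⁻¹
      obtain ⟨g, hg, hgs⟩ := exists_conj_in hC ht (ht.conj h) htH ht'H hspr hsi hs' s.2 hs
      have h1 : Commute (g⁻¹ * u⁻¹) (s : G) := by
        calc g⁻¹ * u⁻¹ * (s : G) = g⁻¹ * (u⁻¹ * (s : G) * u) * u⁻¹ := by group
          _ = g⁻¹ * (g * (s : G) * g⁻¹) * u⁻¹ := by rw [hgs]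
          _ = _ := by group
      have h2 := mul_mem hg (hcentH _ hsi s.2 (mem_cent.mpr h1))
      rw [mul_inv_cancel_left] at h2
      exact huH (by simpa using inv_mem h2)
    have hbar : Odd (Nat.card ↥(W.map π)) := hWodd.of_dvd_nat (card_map_dvd W π)
    refine lt_of_le_of_lt ?_ (lt_of_lt_of_eq (hDH.card_lt_of_odd hFq htq _ hbar) hr.symm)
    refine Nat.card_le_card_of_injective (fun y => ⟨π ⟨y.1, y.2.1⟩, mem_map_of_mem π ?_⟩) ?_
    · rw [hW, mem_subgroupOf, mem_map_equiv, MulAut.conj_symm_apply]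
      show u⁻¹ * y.1 * u ∈ H
      rw [hu.inv_eq, y.2.2]
      exact inv_mem y.2.1
    · intro y z hyz
      have hz : ((⟨y.1, y.2.1⟩ : ↥H)⁻¹ * ⟨z.1, z.2.1⟩) ∈ center ↥H :=
        QuotientGroup.eq.mp (congrArg Subtype.val hyz)
      set c := y.1⁻¹ * z.1 with hc
      refine Subtype.ext (eq_of_inv_mul_eq_one (a := y.1) ?_)
      show c = 1
      by_contra hc1
      have hcH : ∀ a ∈ H, Commute a c := fun a ha =>
        congrArg Subtype.val (mem_center_iff.mp hz ⟨a, ha⟩)
      have hcbad : bad c := by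
        rw [hbaddef]
        exact ⟨hc1, t, ht, (hcH t htH).symm, fun hle => hxle fun a ha =>
          hle (mem_cent.mpr (hcH a ha))⟩
      have hceq : H = cent c :=
        eq_of_le_of_card_ge (fun a ha => mem_cent.mpr (hcH a ha)) (hmax c hcbad)
      have huc : u * c * u = c⁻¹ := by
        have e1 : u * y.1⁻¹ * u = y.1 := by
          have := congrArg (·⁻¹) y.2.2
          simpa [mul_assoc, hu.inv_eq] using this
        calc u * c * u = u * y.1⁻¹ * (u * u) * z.1 * u := by rw [hc, hu.1]; group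
          _ = (u * y.1⁻¹ * u) * (u * z.1 * u) := by group
          _ = y.1 * z.1⁻¹ := by rw [e1, z.2.2]
          _ = y.1 * (c⁻¹ * y.1⁻¹) := by rw [hc]; group
          _ = c⁻¹ := by rw [← ((hcH y.1 y.2.1).inv_left.inv_right).eq, mul_inv_cancel_left]
      have hut : u * t * u ∈ H := by
        rw [hceq, mem_cent]
        have h1 := commute_conj u ((hcH t htH).inv_right)
        rw [hu.inv_eq, ← huc, show u * (u * c * u) * u = u * u * c * (u * u) by group, hu.1, one_mul,
          mul_one] at h1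
        exact h1
      obtain ⟨g, hg, hgt⟩ := hconjH _ (by simpa [hu.inv_eq] using ht.conj u) hut
      have h1 : Commute (g⁻¹ * u) t := by
        calc g⁻¹ * u * t = g⁻¹ * (u * t * u) * u⁻¹ := by group
          _ = g⁻¹ * (g * t * g⁻¹) * u⁻¹ := by rw [hgt]
          _ = t * (g⁻¹ * u) := by rw [hu.inv_eq]; group
      have h2 := mul_mem hg (hAH (mem_cent.mpr h1))
      rw [mul_inv_cancel_left] at h2
      exact huH h2
  have h2 := (exists_involution_in_coset ht hAH hconjH (fun s hs => exists_conj hC hS ht hs)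
    fun u hu huH => (hstrict u hu huH).le).2 u0 hu0 hu0H
  exact (hstrict u0 hu0 hu0H).ne h2

/-- The standing hypotheses hold modulo the centre. -/
theorem data_quotient (hF : HasFour G) : Data (G ⧸ center G) :=
  ⟨hasAbelianCent_quotient hC hS, hasSpread_quotient hC hS,
    centBound_aux _ (G ⧸ center G) le_rfl (hasAbelianCent_quotient hC hS) (hasSpread_quotient hC hS)
      (hasFour_quotient hC hS hF) (center_quotient_eq_bot hC hS)⟩

end Cfsg.Agent.Lib.AbelianInvCentralizer
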