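import Mathlib

/-!
# `SL(2, F)` in characteristic two

Centralisers of non-identity elements are abelian and abelian subgroups of odd order are cyclic.
-/

set_option autoImplicit false
set_option linter.deprecated false
set_option linter.style.haveILetI false

namespace Cfsg.Agent.Lib.AbelianInvCentralizer

open Matrix Subgroup
open scoped MatrixGroups

variable {F : Type*} [Field F]

theorem matTwo_commute_trans {z g h : Matrix (Fin 2) (Fin 2) F}
    (hz : z 0 1 ≠ 0 ∨ z 1 0 ≠ 0 ∨ z 0 0 ≠ z 1 1) (hg : Commute g z) (hh : Commute h z) :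
    Commute g h := by
  have eg := congrFun₂ hg.eq
  have eh := congrFun₂ hh.eq
  have g00 := eg 0 0
  have g01 := eg 0 1
  have g10 := eg 1 0
  have h00 := eh 0 0
  have h01 := eh 0 1
  have h10 := eh 1 0
  simp only [Matrix.mul_apply, Fin.sum_univ_two] at g00 g01 g10 h00 h01 h10
  have k1 : g 0 1 * h 1 0 = g 1 0 * h 0 1 := by
    rcases hz with hq | hr | hd
    · exact mul_left_cancel₀ hq (by linear_combination (g 0 1) * (-h00) + (h 0 1) * g00)
    · exact mul_left_cancel₀ hr (by linear_combination (g 1 0) * (-h00) + (h 1 0) * g00)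
    · exact mul_left_cancel₀ (sub_ne_zero.mpr hd)
        (by linear_combination (-(h 1 0)) * g01 - (h 0 1) * g10 - (g 0 0 - g 1 1) * h00)
  have k2 : (g 0 0 - g 1 1) * h 0 1 = g 0 1 * (h 0 0 - h 1 1) := by
    rcases hz with hq | hr | hd
    · exact mul_left_cancel₀ hq (by linear_combination (h 0 1) * g01 - (g 0 1) * h01)
    · exact mul_left_cancel₀ hr
        (by linear_combination (g 0 1) * h10 - (h 0 1) * g10 - (z 0 0 - z 1 1) * k1)
    · exact mul_left_cancel₀ (sub_ne_zero.mpr hd)
        (by linear_combination (h 0 0 - h 1 1) * g01 - (g 0 0 - g 1 1) * h01)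
  have k3 : (g 0 0 - g 1 1) * h 1 0 = g 1 0 * (h 0 0 - h 1 1) := by
    rcases hz with hq | hr | hd
    · exact mul_left_cancel₀ hq
        (by linear_combination (h 1 0) * g01 - (g 1 0) * h01 + (z 0 0 - z 1 1) * k1)
    · exact mul_left_cancel₀ hr (by linear_combination (g 1 0) * h10 - (h 1 0) * g10)
    · exact mul_left_cancel₀ (sub_ne_zero.mpr hd)
        (by linear_combination (g 0 0 - g 1 1) * h10 - (h 0 0 - h 1 1) * g10)
  show g * h = h * g
  ext i j
  fin_cases i <;> fin_cases j <;>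
    simp only [Matrix.mul_apply, Fin.sum_univ_two, Fin.zero_eta, Fin.mk_one, Fin.isValue] <;>
    first
    | linear_combination k1
    | linear_combination -k1
    | linear_combination k2
    | linear_combination -k2
    | linear_combination k3
    | linear_combination -k3

theorem slTwo_nonscalar [CharP F 2] {z : SpecialLinearGroup (Fin 2) F} (hz : z ≠ 1) :
    (z : Matrix (Fin 2) (Fin 2) F) 0 1 ≠ 0 ∨ (z : Matrix (Fin 2) (Fin 2) F) 1 0 ≠ 0 ∨
      (z : Matrix (Fin 2) (Fin 2) F) 0 0 ≠ (z : Matrix (Fin 2) (Fin 2) F) 1 1 := by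
  by_contra hno
  push Not at hno
  obtain ⟨h01, h10, h⟩ := hno
  have hdet := z.det_coe
  rw [Matrix.det_fin_two, h01, h10, mul_zero, sub_zero, ← h, ← pow_two] at hdet
  have h1 : (z : Matrix (Fin 2) (Fin 2) F) 0 0 = 1 := by
    rcases sq_eq_one_iff.mp hdet with h1 | h1
    · exact h1
    · rwa [CharTwo.neg_eq] at h1
  refine hz (Subtype.ext (Matrix.ext fun i j => ?_))
  fin_cases i <;> fin_cases j <;> simp [h01, h10, h1, ← h]

theorem slTwo_commute_trans [CharP F 2] {z g h : SpecialLinearGroup (Fin 2) F} (hz : z ≠ 1)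
    (hg : Commute g z) (hh : Commute h z) : Commute g h := by
  refine Subtype.ext ?_
  exact (matTwo_commute_trans (slTwo_nonscalar hz) (congrArg Subtype.val hg.eq)
    (congrArg Subtype.val hh.eq)).eq

theorem slTwo_center_eq_bot [CharP F 2] : center (SpecialLinearGroup (Fin 2) F) = ⊥ := by
  rw [eq_bot_iff]
  intro z hz
  rw [mem_bot]
  by_contra hne
  have hab : ∀ g h : SpecialLinearGroup (Fin 2) F, Commute g h := fun g h =>
    slTwo_commute_trans hne (mem_center_iff.mp hz g) (mem_center_iff.mp hz h)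
  have h1 : ((!![1, 1; 0, 1] * !![1, 0; 1, 1] : Matrix (Fin 2) (Fin 2) F)) 0 0 =
      ((!![1, 0; 1, 1] * !![1, 1; 0, 1] : Matrix (Fin 2) (Fin 2) F)) 0 0 :=
    congrFun₂ (congrArg Subtype.val
      (hab ⟨!![1, 1; 0, 1], by simp [Matrix.det_fin_two]⟩ ⟨!![1, 0; 1, 1], by simp [Matrix.det_fin_two]⟩).eq) 0 0
  simp [Matrix.mul_apply, Fin.sum_univ_two] at h1

/-- An abelian subgroup of odd order is cyclic. -/
theorem slTwo_isCyclic_of_odd [CharP F 2] [Finite F] (R : Subgroup (SpecialLinearGroup (Fin 2) F))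
    (hodd : Odd (Nat.card ↥R)) (hab : ∀ g ∈ R, ∀ h ∈ R, Commute g h) : IsCyclic ↥R := by
  classical
  let S : Subalgebra F (Matrix (Fin 2) (Fin 2) F) :=
    Algebra.adjoin F ((fun g : SpecialLinearGroup (Fin 2) F => (g : Matrix (Fin 2) (Fin 2) F)) '' R)
  letI : CommRing ↥S := Algebra.adjoinCommRingOfComm F (by
    rintro _ ⟨g, hg, rfl⟩ _ ⟨h, hh, rfl⟩
    exact congrArg Subtype.val (hab g hg h hh).eq)
  obtain ⟨m, hm⟩ := Ideal.exists_maximal ↥S
  letI := Ideal.Quotient.field m
  let φ : ↥R →* (↥S ⧸ m) :=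
    { toFun := fun g => Ideal.Quotient.mk m
        ⟨((g : SpecialLinearGroup (Fin 2) F) : Matrix (Fin 2) (Fin 2) F),
          Algebra.subset_adjoin ⟨g, g.2, rfl⟩⟩
      map_one' := by
        rw [← map_one (Ideal.Quotient.mk m)]
        rfl
      map_mul' := fun g h => by
        rw [← map_mul]
        rfl }
  refine isCyclic_of_subgroup_isDomain φ ((injective_iff_map_eq_one φ).mpr fun g hg => ?_)
  set M := ((g : SpecialLinearGroup (Fin 2) F) : Matrix (Fin 2) (Fin 2) F) with hM
  set x : ↥S := ⟨M, Algebra.subset_adjoin ⟨g, g.2, rfl⟩⟩ - 1 with hx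
  have hxm : x ∈ m := by
    rw [← Ideal.Quotient.eq_zero_iff_mem, hx, map_sub, map_one]
    exact sub_eq_zero.mpr hg
  have hdet : (M - 1).det = 0 := by
    by_contra hd
    have hu : IsUnit (M - 1) := (Matrix.isUnit_iff_isUnit_det _).mpr (isUnit_iff_ne_zero.mpr hd)
    have hinj : Function.Injective fun y : ↥S => x * y := by
      intro a b hab'
      exact Subtype.ext (hu.mul_left_cancel (congrArg Subtype.val hab'))
    obtain ⟨y, hy⟩ := (Finite.injective_iff_surjective.mp hinj) 1
    exact hm.ne_top ((Ideal.eq_top_iff_one m).mpr (hy ▸ m.mul_mem_right y hxm))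
  -- the trace vanishes, so the square is the identity
  have h1 := (g : SpecialLinearGroup (Fin 2) F).det_coe
  rw [← hM, Matrix.det_fin_two] at h1
  rw [Matrix.det_fin_two] at hdet
  simp only [Matrix.sub_apply, Matrix.one_apply_eq, Matrix.one_apply_ne, ne_eq, zero_ne_one,
    one_ne_zero, not_false_iff, sub_zero] at hdet
  have h2 : (2 : F) = 0 := CharP.cast_eq_zero F 2
  have htr : M 0 0 = M 1 1 := by linear_combination hdet * (-1) + h1 - (M 1 1 - 1) * h2
  have hsq : (g : SpecialLinearGroup (Fin 2) F) * g = 1 := by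
    refine Subtype.ext ?_
    show M * M = (1 : Matrix (Fin 2) (Fin 2) F)
    ext i j
    fin_cases i <;> fin_cases j <;>
      simp only [Matrix.mul_apply, Fin.sum_univ_two, Fin.zero_eta, Fin.mk_one, Fin.isValue,
        Matrix.one_apply_eq, Matrix.one_apply_ne, ne_eq, zero_ne_one, one_ne_zero, not_false_iff]
    · linear_combination h1 + (M 0 0) * htr + (M 0 1 * M 1 0) * h2
    · linear_combination (-(M 0 1)) * htr + (M 0 0 * M 0 1) * h2
    · linear_combination (-(M 1 0)) * htr + (M 0 0 * M 1 0) * h2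
    · linear_combination h1 - (M 1 1) * htr + (M 0 1 * M 1 0) * h2
  refine Subtype.ext (orderOf_eq_one_iff.mp (Nat.eq_one_of_dvd_coprimes hodd.coprime_two_right
    (R.orderOf_dvd_natCard g.2) (orderOf_dvd_of_pow_eq_one ?_)))
  rw [pow_two, hsq]

end Cfsg.Agent.Lib.AbelianInvCentralizer
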