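import Mathlib
import Cfsg.Agent.S0727
import Cfsg.Agent.Lib.AbelianInvCentralizer.Centre
import Cfsg.Agent.Lib.AbelianInvCentralizer.SLTwo

/-!
# Identification

A group with abelian involution centralisers, a four group and two non-commuting involutions is
`SL(2, 2^f) × Z` with `Z` the centre, of odd order.
-/

set_option autoImplicit false
set_option linter.style.haveILetI false
set_option linter.deprecated false

namespace Cfsg.Agent.Lib.AbelianInvCentralizer

open Subgroup MulAction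

universe u

variable {G : Type u} [Group G] [Finite G]

theorem Data.exists_slTwo (D : Data G) (hF : HasFour G) :
    ∃ (F : Type) (_ : Field F) (_ : Fintype F) (f : ℕ), CharP F 2 ∧ 2 ≤ f ∧
      Fintype.card F = 2 ^ f ∧ Nonempty (G ≃* Matrix.SpecialLinearGroup (Fin 2) F) := by
  classical
  obtain ⟨t, u, ht, hu, htu⟩ := id D.spread
  obtain ⟨hA, hexp, hodd, he3, hZ⟩ := D.facts hF ht
  set e := (cent t).relIndex (nz t) with he
  have := Fintype.ofFinite (G ⧸ nz t)
  -- `e + 1` is a power of two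
  have hP : IsPGroup 2 ↥(cent t) := fun a => ⟨1, Subtype.ext (by
    rw [pow_one, pow_two]; exact hexp a (mem_cent.mp a.2))⟩
  obtain ⟨f, hf⟩ := IsPGroup.iff_card.mp hP
  rw [hA] at hf
  have hf2 : 2 ≤ f := by
    by_contra hc
    have : 2 ^ f ≤ 2 ^ 1 := Nat.pow_le_pow_right (by norm_num) (by omega)
    omega
  have hcard : Fintype.card (G ⧸ nz t) = 2 ^ f + 1 := by
    rw [← Nat.card_eq_fintype_card, D.card_points ht (by omega), hA, hf]
  haveI : FaithfulSMul G (G ⧸ nz t) := hZ.1
  -- sharp triple transitivity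
  obtain ⟨g0, hg0⟩ := D.exists_outside ht
  set o : G ⧸ nz t := ((1 : G) : G ⧸ nz t) with ho
  set b : G ⧸ nz t := (g0 : G ⧸ nz t) with hb
  have hob : o ≠ b := ((D.mk_ne_one_iff ht g0).mpr hg0).symm
  obtain ⟨-, -, -, -, -, hKcard⟩ := D.inter_inverted ht (ht.conj g0) hg0
  let K : Subgroup G := stabilizer G o ⊓ stabilizer G b
  have hKc : Nat.card ↥K = e := by
    show Nat.card ↥(stabilizer G o ⊓ stabilizer G b) = e
    rw [ho, hb, D.stabilizer_mk ht, D.stabilizer_mk ht, one_mul, inv_one, mul_one]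
    exact hKcard
  obtain ⟨c, hco, hcb⟩ : ∃ c : G ⧸ nz t, c ≠ o ∧ c ≠ b := by
    have h := Finset.card_le_two (a := o) (b := b)
    have : 2 ^ 2 ≤ 2 ^ f := Nat.pow_le_pow_right (by norm_num) hf2
    obtain ⟨z, hz⟩ := Finset.exists_mem_notMem_of_card_lt_card (s := {o, b})
      (t := (Finset.univ : Finset (G ⧸ nz t))) (by rw [Finset.card_univ, hcard]; omega)
    exact ⟨z, by simpa using hz.2⟩
  have hKtrans : ∀ d, d ≠ o → d ≠ b → ∃ k ∈ K, k • c = d := by
    let φ : ↥K → {d : G ⧸ nz t // d ≠ o ∧ d ≠ b} := fun k => ⟨(k : G) • c,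
      fun h => hco (smul_left_cancel (k : G) (h.trans (mem_inf.mp k.2).1.symm)),
      fun h => hcb (smul_left_cancel (k : G) (h.trans (mem_inf.mp k.2).2.symm))⟩
    have hφ : Function.Injective φ := by
      intro k k' hk
      have h1 : (k : G) • c = (k' : G) • c := congrArg Subtype.val hk
      have hm : (k' : G)⁻¹ * k ∈ K := mul_mem (inv_mem k'.2) k.2
      exact Subtype.ext (inv_mul_eq_one.mp (hZ.2.2.1 _ o b c hob hcb.symm hco.symm (mem_inf.mp hm).1
        (mem_inf.mp hm).2 (by rw [mul_smul, h1, inv_smul_smul]))).symm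
    have hle : Nat.card {d : G ⧸ nz t // d ≠ o ∧ d ≠ b} ≤ Nat.card ↥K := by
      rw [hKc, Nat.card_eq_fintype_card, Fintype.card_subtype,
        show (Finset.univ.filter fun d : G ⧸ nz t => d ≠ o ∧ d ≠ b) =
          (Finset.univ.erase o).erase b by ext d; simp [and_comm],
        Finset.card_erase_of_mem (by simp [hob.symm]), Finset.card_erase_of_mem (Finset.mem_univ o),
        Finset.card_univ, hcard]
      omega
    intro d hdo hdb
    obtain ⟨k, hk⟩ := (hφ.bijective_of_nat_card_le hle).2 ⟨d, hdo, hdb⟩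
    exact ⟨k, k.2, congrArg Subtype.val hk⟩
  have h2 := hZ.2.1
  rw [is_two_pretransitive_iff] at h2
  have htriple : ∀ x : Fin 3 ↪ G ⧸ nz t, ∃ g : G, g • o = x 0 ∧ g • b = x 1 ∧ g • c = x 2 := by
    intro x
    obtain ⟨g, hgo, hgb⟩ := h2 hob (x.injective.ne (show (0 : Fin 3) ≠ 1 by decide))
    obtain ⟨k, hk, hkc⟩ := hKtrans (g⁻¹ • x 2)
      (fun h => x.injective.ne (show (2 : Fin 3) ≠ 0 by decide)
        (by rw [← hgo, ← h, smul_inv_smul]))
      (fun h => x.injective.ne (show (2 : Fin 3) ≠ 1 by decide)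
        (by rw [← hgb, ← h, smul_inv_smul]))
    exact ⟨g * k, by rw [mul_smul, (mem_inf.mp hk).1, hgo], by rw [mul_smul, (mem_inf.mp hk).2, hgb],
      by rw [mul_smul, hkc, smul_inv_smul]⟩
  set P := MulAction.toPermHom G (G ⧸ nz t) with hP'
  have h3 : IsMultiplyPretransitive ↥P.range (G ⧸ nz t) 3 := by
    refine ⟨fun x y => ?_⟩
    obtain ⟨g, hg0', hg1, hg2⟩ := htriple x
    obtain ⟨g', hg0'', hg1', hg2'⟩ := htriple y
    refine ⟨⟨P (g' * g⁻¹), ⟨_, rfl⟩⟩, Function.Embedding.ext fun i => ?_⟩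
    show (g' * g⁻¹) • x i = y i
    fin_cases i
    · show (g' * g⁻¹) • x 0 = y 0
      rw [mul_smul, ← hg0', inv_smul_smul, hg0'']
    · show (g' * g⁻¹) • x 1 = y 1
      rw [mul_smul, ← hg1, inv_smul_smul, hg1']
    · show (g' * g⁻¹) • x 2 = y 2
      rw [mul_smul, ← hg2, inv_smul_smul, hg2']
  have hsharp : ∀ x : Fin 3 ↪ G ⧸ nz t, stabilizer ↥P.range x = ⊥ := by
    intro x
    rw [eq_bot_iff_forall]
    rintro ⟨_, g, rfl⟩ hg
    have hfix : ∀ i, g • x i = x i := fun i =>
      congrArg (fun z : Fin 3 ↪ G ⧸ nz t => z i) (mem_stabilizer_iff.mp hg)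
    have hg1 := hZ.2.2.1 g (x 0) (x 1) (x 2) (x.injective.ne (by decide)) (x.injective.ne (by decide))
      (x.injective.ne (by decide)) (hfix 0) (hfix 1) (hfix 2)
    exact Subtype.ext (by show P g = 1; rw [hg1, map_one])
  obtain ⟨F, hFf, hFt, hFcard, ⟨ψ⟩⟩ :=
    Cfsg.Agent.S0727.result (by omega : 1 ≤ f) hcard P.range h3 hsharp
  have hchar : CharP F 2 := charP_of_card_eq_prime_pow hFcard
  have hPinj : Function.Injective P := MulAction.toPerm_injective
  -- `PGL` is `SL` in characteristic two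
  have hroots : ∀ r : Fˣ, ∃ k : Fˣ, k ^ Fintype.card (Fin 2) = r := by
    intro r
    have hinj : Function.Injective fun k : Fˣ => k ^ 2 := by
      intro a b hab
      have h1 : ((a : F)) ^ 2 = ((b : F)) ^ 2 := by
        simpa using congrArg Units.val hab
      exact Units.ext (CharTwo.sq_injective h1)
    obtain ⟨k, hk⟩ := Finite.injective_iff_surjective.mp hinj r
    exact ⟨k, by simpa using hk⟩
  let χ : Matrix.SpecialLinearGroup (Fin 2) F →* Matrix.ProjGenLinGroup (Fin 2) F :=
    Matrix.SpecialLinearGroup.toPGL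
  have hχi : Function.Injective χ := by
    rw [← MonoidHom.ker_eq_bot_iff, Matrix.SpecialLinearGroup.toPGL_ker, slTwo_center_eq_bot]
  have hχs : Function.Surjective χ := by
    intro y
    obtain ⟨x, hx⟩ := Matrix.ProjectiveSpecialLinearGroup.toPGL_surj_of_roots hroots y
    induction x using QuotientGroup.induction_on with | H x => ?_
    exact ⟨x, hx⟩
  exact ⟨F, hFf, hFt, f, hchar, hf2, hFcard,
    ⟨((MonoidHom.ofInjective hPinj).trans ψ).trans (MulEquiv.ofBijective χ ⟨hχi, hχs⟩).symm⟩⟩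

variable (hC : HasAbelianCent G) (hS : HasSpread G) (hF : HasFour G)
include hC hS hF

omit hF in
/-- Every involution lies in the derived subgroup once there are two commuting ones. -/
theorem inv_mem_commutator (hF : HasFour G) {s : G} (hs : IsInv s) : s ∈ commutator G := by
  obtain ⟨a, b, ha, hb, hne, hab⟩ := hF
  have hab' := ha.mul hb hab hne
  have key : ∀ {v w : G}, IsInv v → IsInv w → (Abelianization.of v : Abelianization G) = Abelianization.of w := by
    intro v w hv hw
    obtain ⟨g, rfl⟩ := exists_conj hC hS hv hw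
    rw [map_mul, map_mul, map_inv, mul_comm (Abelianization.of g), mul_inv_cancel_right]
  have h1 : (Abelianization.of (a * b) : Abelianization G) = Abelianization.of a := key hab' ha
  rw [map_mul, key hb ha, mul_eq_left] at h1
  rw [← Abelianization.ker_of, MonoidHom.mem_ker, key hs ha, h1]

theorem exists_slTwo_prod :
    ∃ (F : Type) (_ : Field F) (_ : Fintype F) (f : ℕ), CharP F 2 ∧ 2 ≤ f ∧ Fintype.card F = 2 ^ f ∧
      Odd (Nat.card ↥(center G)) ∧
      Nonempty (G ≃* Matrix.SpecialLinearGroup (Fin 2) F × ↥(center G)) := by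
  classical
  have D := data_quotient hC hS hF
  have hFq := hasFour_quotient hC hS hF
  obtain ⟨F, hFf, hFt, f, hchar, hf2, hFcard, ⟨ψ⟩⟩ := D.exists_slTwo hFq
  have hZodd : Odd (Nat.card ↥(center G)) := by
    rw [← Nat.not_even_iff_odd]
    intro hev
    obtain ⟨⟨z, hz⟩, hzo⟩ := exists_prime_orderOf_dvd_card' (G := ↥(center G)) 2 hev.two_dvd
    rw [Subgroup.orderOf_mk] at hzo
    exact not_isInv_center hC hS hz (isInv_iff.mpr hzo)
  refine ⟨F, hFf, hFt, f, hchar, hf2, hFcard, hZodd, ?_⟩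
  set π := QuotientGroup.mk' (center G) with hπ
  -- `G = G' Z`
  have hgen : ∀ g : G, ∃ d ∈ commutator G, π d = π g := by
    intro g
    obtain ⟨t, u, ht, hu, htu⟩ := id hS
    have htq : IsInv (π t) := isInv_mk hC hS ht
    obtain ⟨-, hexp, -, -, -⟩ := D.facts hFq htq
    obtain ⟨m, hm, hmg⟩ := exists_conj_in hC (H := commutator G) ht hu
      (inv_mem_commutator hC hS hF ht) (inv_mem_commutator hC hS hF hu) htu ht (ht.conj g)
      (inv_mem_commutator hC hS hF ht) (inv_mem_commutator hC hS hF (ht.conj g))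
    have ha : Commute (m⁻¹ * g) t := by
      calc m⁻¹ * g * t = m⁻¹ * (g * t * g⁻¹) * g := by group
        _ = m⁻¹ * (m * t * m⁻¹) * g := by rw [hmg]
        _ = t * (m⁻¹ * g) := by group
    have h2 := hexp _ (ha.map π)
    by_cases h1 : π (m⁻¹ * g) = 1
    · refine ⟨m, hm, ?_⟩
      rwa [map_mul, map_inv, inv_mul_eq_one] at h1
    · obtain ⟨r, hr, hrq⟩ := exists_lift_inv hC hS (s := π (m⁻¹ * g)) ⟨h2, h1⟩
      exact ⟨m * r, mul_mem hm (inv_mem_commutator hC hS hF hr),
        by rw [map_mul, hrq, ← map_mul, mul_inv_cancel_left]⟩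
  -- `G' ∩ Z = 1`
  have hdisj : commutator G ⊓ center G = ⊥ := by
    rw [eq_bot_iff]
    intro z hz
    obtain ⟨hzd, hzc⟩ := mem_inf.mp hz
    rw [mem_bot]
    by_contra hz1
    obtain ⟨r, hr, hrd⟩ := Nat.exists_prime_and_dvd (fun h => hz1 (orderOf_eq_one_iff.mp h))
    haveI := Fact.mk hr
    set w := z ^ (orderOf z / r) with hw
    have hwo : orderOf w = r := orderOf_pow_orderOf_div (orderOf_pos z).ne' hrd
    have hr2 : r ≠ 2 := by
      rintro rfl
      have h1 := hZodd.of_dvd_nat ((center G).orderOf_dvd_natCard (pow_mem hzc (orderOf z / 2)))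
      rw [hwo] at h1
      exact absurd h1 (by decide)
    obtain ⟨R⟩ : Nonempty (Sylow r G) := inferInstance
    have hwR : w ∈ (R : Subgroup G) := by
      have hP : IsPGroup r ↥(zpowers w) :=
        IsPGroup.of_card (n := 1) (by rw [Nat.card_zpowers, hwo, pow_one])
      obtain ⟨R', hR'⟩ := hP.exists_le_sylow
      obtain ⟨c, hc⟩ := MulAction.exists_smul_eq G R' R
      rw [← hc, Sylow.coe_subgroup_smul]
      refine ⟨w, hR' (mem_zpowers w), ?_⟩
      show c * w * c⁻¹ = w
      rw [mem_center_iff.mp (pow_mem hzc _) c, mul_inv_cancel_right]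
    -- the image of `R` is cyclic, so `R` is abelian
    set R' : Subgroup (Matrix.SpecialLinearGroup (Fin 2) F) :=
      (R : Subgroup G).map (ψ.toMonoidHom.comp π) with hR'
    have hR'p : IsPGroup r ↥R' := R.2.map _
    have hR'odd : Odd (Nat.card ↥R') := by
      obtain ⟨n, hn⟩ := IsPGroup.iff_card.mp hR'p
      rw [hn]
      exact (hr.odd_of_ne_two hr2).pow
    have hR'ab : ∀ a ∈ R', ∀ b ∈ R', Commute a b := by
      intro a ha b hb
      rcases subsingleton_or_nontrivial ↥R' with hsub | hnt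
      · exact congrArg Subtype.val (congrArg₂ (· * ·) (Subsingleton.elim (⟨a, ha⟩ : R') ⟨b, hb⟩)
          (Subsingleton.elim (⟨b, hb⟩ : R') ⟨a, ha⟩))
      · haveI := hR'p.center_nontrivial
        obtain ⟨⟨⟨y, hy⟩, hyc⟩, hy1⟩ := exists_ne (1 : ↥(center ↥R'))
        exact slTwo_commute_trans (fun h => hy1 (Subtype.ext (Subtype.ext h)))
          (congrArg Subtype.val (mem_center_iff.mp hyc ⟨a, ha⟩))
          (congrArg Subtype.val (mem_center_iff.mp hyc ⟨b, hb⟩))
    haveI hcyc := slTwo_isCyclic_of_odd R' hR'odd hR'ab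
    let τ : ↥(R : Subgroup G) →* ↥R' := (ψ.toMonoidHom.comp π).subgroupMap (R : Subgroup G)
    have hτ : τ.ker ≤ center ↥(R : Subgroup G) := by
      intro x hx
      have h1 : ψ (π x) = 1 := congrArg Subtype.val (MonoidHom.mem_ker.mp hx)
      rw [map_eq_one_iff ψ ψ.injective] at h1
      have h2 : (x : G) ∈ center G := (QuotientGroup.eq_one_iff _).mp h1
      exact mem_center_iff.mpr fun y => Subtype.ext (mem_center_iff.mp h2 y)
    have hRab : IsMulCommutative ↥(R : Subgroup G) := ⟨⟨commutative_of_cyclic_center_quotient τ hτ⟩⟩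
    open scoped IsMulCommutative in
    have h1 : MonoidHom.transfer (MonoidHom.id ↥(R : Subgroup G)) w = 1 :=
      (Abelianization.commutator_subset_ker _) (pow_mem hzd _)
    have hkey : ∀ (k : ℕ) (g₀ : G), g₀⁻¹ * w ^ k * g₀ ∈ (R : Subgroup G) →
        g₀⁻¹ * w ^ k * g₀ = w ^ k := fun k g₀ _ => by
      have hwc : w ∈ center G := pow_mem hzc _
      rw [mem_center_iff.mp (pow_mem hwc k) g₀⁻¹, inv_mul_cancel_right]
    open scoped IsMulCommutative in
    rw [MonoidHom.transfer_eq_pow (H := (R : Subgroup G)) (MonoidHom.id ↥(R : Subgroup G)) w hkey] at h1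
    have h2 : w ^ (R : Subgroup G).index = 1 := congrArg Subtype.val h1
    have h3 := orderOf_dvd_of_pow_eq_one h2
    rw [hwo] at h3
    exact R.not_dvd_index h3
  -- the splitting
  let ρ : ↥(commutator G) × ↥(center G) →* G :=
    MonoidHom.noncommCoprod (commutator G).subtype (center G).subtype fun a b =>
      mem_center_iff.mp b.2 a
  have hρ : Function.Bijective ρ := by
    constructor
    · rw [injective_iff_map_eq_one]
      rintro ⟨⟨a, ha⟩, ⟨b, hb⟩⟩ hab
      have hab' : a * b = 1 := hab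
      have hbm : b ∈ commutator G ⊓ center G :=
        mem_inf.mpr ⟨(eq_inv_of_mul_eq_one_right hab') ▸ inv_mem ha, hb⟩
      rw [hdisj, mem_bot] at hbm
      subst hbm
      rw [mul_one] at hab'
      subst hab'
      rfl
    · intro g
      obtain ⟨d, hd, hdg⟩ := hgen g
      exact ⟨(⟨d, hd⟩, ⟨d⁻¹ * g, QuotientGroup.eq.mp hdg⟩), mul_inv_cancel_left d g⟩
  let θ : ↥(commutator G) →* Matrix.SpecialLinearGroup (Fin 2) F :=
    (ψ.toMonoidHom.comp π).comp (commutator G).subtype
  have hθ : Function.Bijective θ := by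
    constructor
    · rw [injective_iff_map_eq_one]
      intro d hd
      have h1 : π (d : G) = 1 := (map_eq_one_iff ψ ψ.injective).mp hd
      have h2 : (d : G) ∈ commutator G ⊓ center G :=
        mem_inf.mpr ⟨d.2, (QuotientGroup.eq_one_iff _).mp h1⟩
      rw [hdisj, mem_bot] at h2
      exact Subtype.ext h2
    · intro y
      obtain ⟨g, hg⟩ := QuotientGroup.mk'_surjective (center G) (ψ.symm y)
      obtain ⟨d, hd, hdg⟩ := hgen g
      exact ⟨⟨d, hd⟩, by show ψ (π d) = y; rw [hdg, hπ, hg, ψ.apply_symm_apply]⟩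
  exact ⟨(MulEquiv.ofBijective ρ hρ).symm.trans
    (MulEquiv.prodCongr (MulEquiv.ofBijective θ hθ) (MulEquiv.refl _))⟩

end Cfsg.Agent.Lib.AbelianInvCentralizer
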