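import Mathlib
import Cfsg.Agent.Lib.AbelianConj.Basic
import Cfsg.Agent.Lib.AbelianInvCentralizer.Basic

/-!
# Sylow 2-subgroups when involution centralisers are abelian
-/

set_option autoImplicit false

namespace Cfsg.Agent.Lib.AbelianInvCentralizer

open Subgroup

variable {G : Type*} [Group G] [Finite G] (hC : HasAbelianCent G)
include hC

/-- Either some Sylow 2-subgroup is cyclic, or normal, or there are a four group and two
non-commuting involutions. -/
theorem sylow_trichotomy (P : Sylow 2 G) :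
    IsCyclic ↥(P : Subgroup G) ∨ (P : Subgroup G).Normal ∨ (HasFour G ∧ HasSpread G) := by
  classical
  rcases subsingleton_or_nontrivial ↥(P : Subgroup G) with hsub | hnt
  · exact Or.inl inferInstance
  haveI := P.2.center_nontrivial
  obtain ⟨⟨⟨z0, hz0⟩, hzc⟩, hz1⟩ := exists_prime_orderOf_dvd_card'
    (G := ↥(center ↥(P : Subgroup G))) 2 (by
      obtain ⟨n, hn0, hn⟩ := (P.2.to_subgroup (center ↥(P : Subgroup G))).nontrivial_iff_card.mp
        inferInstance
      exact hn ▸ dvd_pow_self 2 hn0.ne')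
  rw [Subgroup.orderOf_mk, Subgroup.orderOf_mk] at hz1
  have hzi : IsInv z0 := isInv_iff.mpr hz1
  have hPz : (P : Subgroup G) ≤ cent z0 := fun a ha =>
    mem_cent.mpr (congrArg Subtype.val (mem_center_iff.mp hzc ⟨a, ha⟩))
  by_cases hS : HasSpread G
  swap
  · refine Or.inr (Or.inl ?_)
    have hall : ∀ s v : G, IsInv s → IsInv v → Commute s v := fun s v hs hv => by
      by_contra h
      exact hS ⟨s, v, hs, hv, h⟩
    refine ⟨fun n hn g => ?_⟩
    have hgP : ∀ a ∈ (P : Subgroup G), g * a * g⁻¹ ∈ cent z0 := by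
      intro a ha
      rw [← cent_eq_of_commute hC (hzi.conj g) hzi (hall _ _ (hzi.conj g) hzi), cent_conj,
        mem_map_equiv, MulAut.conj_symm_apply]
      rw [show g⁻¹ * (g * a * g⁻¹) * g = a by group]
      exact hPz ha
    set Q : Subgroup G := (P : Subgroup G).map (MulAut.conj g).toMonoidHom with hQ
    have hQz : Q ≤ cent z0 := by
      rintro _ ⟨a, ha, rfl⟩
      exact hgP a ha
    have hnorm : Q ≤ normalizer ((P : Subgroup G) : Set G) := by
      intro q hq
      rw [mem_normalizer_iff]
      intro a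
      constructor
      · intro ha
        rw [(commute_of_mem_cent hC hzi (hQz hq) (hPz ha)).eq, mul_inv_cancel_right]
        exact ha
      · intro ha
        have h1 := commute_of_mem_cent hC hzi (hQz hq) (hPz ha)
        have h2 : q⁻¹ * (q * a * q⁻¹) * q = a := by group
        rw [← h2, mul_assoc, ← h1.eq, ← mul_assoc, inv_mul_cancel, one_mul]
        exact ha
    have hsup : IsPGroup 2 ↥((P : Subgroup G) ⊔ Q) :=
      IsPGroup.to_sup_of_normal_left' P.2 (P.2.map _) hnorm
    have := P.is_maximal' hsup le_sup_left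
    exact (le_sup_right.trans this.le : Q ≤ (P : Subgroup G)) ⟨n, hn, rfl⟩
  by_cases hF : HasFour G
  · exact Or.inr (Or.inr ⟨hF, hS⟩)
  refine Or.inl ?_
  refine AbelianConj.isCyclic_of_unique P.2 (fun a b ha hb => ?_)
    (Or.inr ⟨⟨fun a b => Subtype.ext (commute_of_mem_cent hC hzi (hPz a.2) (hPz b.2)).eq⟩⟩)
  rw [← Subgroup.orderOf_coe] at ha hb
  have hab : (a : G) = b := by
    by_contra hne
    exact hF ⟨a, b, isInv_iff.mpr ha, isInv_iff.mpr hb, hne,
      commute_of_mem_cent hC hzi (hPz a.2) (hPz b.2)⟩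
  rw [Subtype.ext hab]
  exact mem_zpowers b

end Cfsg.Agent.Lib.AbelianInvCentralizer
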